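import Groth.Prelude.Def_DerCA
import Mathlib.Algebra.Homology.DerivedCategory.HomologySequence
import Mathlib.Algebra.Homology.ShortComplex.ExactFunctor
import Mathlib.Algebra.Module.LocalizedModule.Exact

/-!
# The cohomology of the extended Čech complex `DerCA.extCech`

* `locFunctor S` is exact; `homLoc` : `H^q(K_S) ≅ H^q(K)_S`, compatible with the localisation map (`homLoc_comp`).
* the long exact sequence of the cocone (`les₁`, `les₂`, `les₃`).
* `isZero_neg`: cohomology in negative degrees vanishes.
-/

set_option autoImplicit false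
universe u
open CategoryTheory CategoryTheory.Limits

namespace K171.Cech

attribute [local instance] HasDerivedCategory.standard

variable {R : Type u} [CommRing R]

section Loc

variable (S : Submonoid R)

theorem locFunctor_exact (T : ShortComplex (ModuleCat.{u} R)) (h : T.Exact) :
    (T.map (DerCA.locFunctor S)).Exact := by
  rw [ShortComplex.ShortExact.moduleCat_exact_iff_function_exact] at h ⊢
  exact IsLocalizedModule.map_exact S (LocalizedModule.mkLinearMap S T.X₁)
    (LocalizedModule.mkLinearMap S T.X₂) (LocalizedModule.mkLinearMap S T.X₃) _ _ h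

instance : PreservesFiniteLimits (DerCA.locFunctor (R := R) S) := by
  have := ((Functor.exact_tfae (DerCA.locFunctor (R := R) S)).out 1 3).mp (locFunctor_exact S)
  exact this.1

instance : PreservesFiniteColimits (DerCA.locFunctor (R := R) S) := by
  have := ((Functor.exact_tfae (DerCA.locFunctor (R := R) S)).out 1 3).mp (locFunctor_exact S)
  exact this.2

/-- The map of left homology data induced by the localisation map. -/
noncomputable def mapData (K : DRing.Cx R) (q : ℤ) (h : (K.sc q).LeftHomologyData) :
    ShortComplex.LeftHomologyMapData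
      ((HomologicalComplex.shortComplexFunctor (ModuleCat.{u} R) (ComplexShape.up ℤ) q).map
        (DerCA.locCxUnit S K)) h (h.map (DerCA.locFunctor S)) where
  φK := (DerCA.locUnit S).app h.K
  φH := (DerCA.locUnit S).app h.H
  commi := ((DerCA.locUnit S).naturality h.i).symm
  commf' := ((DerCA.locUnit S).naturality h.f').trans (congrArg
    (fun t => (DerCA.locUnit S).app (K.sc q).X₁ ≫ t)
    (ShortComplex.LeftHomologyData.map_f' h (DerCA.locFunctor S)).symm)
  commπ := (DerCA.locUnit S).naturality h.π

/-- `H^q(K_S) ≅ H^q(K)_S`. -/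
noncomputable def homLoc (K : DRing.Cx R) (q : ℤ) :
    ((DerCA.locCx S).obj K).homology q ≅ (DerCA.locFunctor S).obj (K.homology q) :=
  ((K.sc q).leftHomologyData.map (DerCA.locFunctor S)).homologyIso ≪≫
    (DerCA.locFunctor S).mapIso (K.sc q).leftHomologyData.homologyIso.symm

/-- The localisation map on complexes induces the localisation map on cohomology. -/
theorem homLoc_comp (K : DRing.Cx R) (q : ℤ) :
    HomologicalComplex.homologyMap (DerCA.locCxUnit S K) q ≫ (homLoc S K q).hom =
      (DerCA.locUnit S).app (K.homology q) := by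
  have h := (mapData S K q (K.sc q).leftHomologyData).homologyMap_comm
  have h2 := (DerCA.locUnit S).naturality (K.sc q).leftHomologyData.homologyIso.inv
  refine (Category.assoc _ _ _).symm.trans ?_
  refine (congrArg (fun t => t ≫ (DerCA.locFunctor S).map
    (K.sc q).leftHomologyData.homologyIso.inv) h).trans ?_
  refine (Category.assoc _ _ _).trans ?_
  refine (congrArg (fun t => (K.sc q).leftHomologyData.homologyIso.hom ≫ t) h2.symm).trans ?_
  refine (Category.assoc _ _ _).symm.trans ?_
  refine (congrArg (fun t => t ≫ (DerCA.locUnit S).app _)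
    (K.sc q).leftHomologyData.homologyIso.hom_inv_id).trans ?_
  exact Category.id_comp _

theorem mkLinearMap_eq_zero_iff (N : Type u) [AddCommGroup N] [Module R N] (x : N) :
    LocalizedModule.mkLinearMap S N x = 0 ↔ ∃ s ∈ S, s • x = 0 := by
  rw [LocalizedModule.mkLinearMap_apply, ← LocalizedModule.zero_mk 1, LocalizedModule.mk_eq]
  constructor
  · rintro ⟨c, hc⟩
    exact ⟨c, c.2, by simpa [Submonoid.smul_def] using hc⟩
  · rintro ⟨s, hs, hx⟩
    exact ⟨⟨s, hs⟩, by simpa using hx⟩

/-- Kernel of `H^q(K) → H^q(K_S)`. -/
theorem homologyMap_locCxUnit_eq_zero_iff (K : DRing.Cx R) (q : ℤ) (x : K.homology q) :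
    (HomologicalComplex.homologyMap (DerCA.locCxUnit S K) q).hom x = 0 ↔ ∃ s ∈ S, s • x = 0 := by
  have h := homLoc_comp S K q
  have h1 : (homLoc S K q).hom.hom ((HomologicalComplex.homologyMap (DerCA.locCxUnit S K) q).hom x)
      = LocalizedModule.mkLinearMap S (K.homology q) x := by
    have := congrArg (fun t => t.hom x) h
    exact this
  have h2 : Function.Injective (homLoc S K q).hom.hom :=
    (homLoc S K q).toLinearEquiv.injective
  rw [← map_eq_zero_iff (homLoc S K q).hom.hom h2, h1]
  exact mkLinearMap_eq_zero_iff S _ x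

/-- `H^q(K) → H^q(K_S)` is surjective iff the localisation map of `H^q(K)` is. -/
theorem homologyMap_locCxUnit_surjective_iff (K : DRing.Cx R) (q : ℤ) :
    Function.Surjective (HomologicalComplex.homologyMap (DerCA.locCxUnit S K) q).hom ↔
      Function.Surjective (LocalizedModule.mkLinearMap S (K.homology q)) := by
  have h := homLoc_comp S K q
  have h1 : ∀ x, (homLoc S K q).hom.hom
      ((HomologicalComplex.homologyMap (DerCA.locCxUnit S K) q).hom x)
      = LocalizedModule.mkLinearMap S (K.homology q) x := fun x =>
    congrArg (fun t => t.hom x) h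
  have h2 := (homLoc S K q).toLinearEquiv
  have h3 : Function.Bijective (homLoc S K q).hom.hom := (homLoc S K q).toLinearEquiv.bijective
  constructor
  · intro hs y
    obtain ⟨z, rfl⟩ := h3.2 y
    obtain ⟨x, rfl⟩ := hs z
    exact ⟨x, (h1 x).symm⟩
  · intro hs z
    obtain ⟨x, hx⟩ := hs ((homLoc S K q).hom.hom z)
    exact ⟨x, h3.1 ((h1 x).trans hx)⟩

theorem isZero_homology_locCx (K : DRing.Cx R) (q : ℤ) (h : IsZero (K.homology q)) :
    IsZero (((DerCA.locCx S).obj K).homology q) :=
  ((DerCA.locFunctor S).map_isZero h).of_iso (homLoc S K q)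

end Loc

section LES

variable {K L : DRing.Cx R} (φ : K ⟶ L)

/-- The connecting map `H^{q-1}(L) → H^q(cocone)`. -/
noncomputable def δ (q₀ q₁ : ℤ) (h : q₀ + 1 = q₁) :
    L.homology q₀ ⟶ (CochainComplex.mappingCocone φ).homology q₁ :=
  CochainComplex.homologyδOfTriangle (CochainComplex.mappingCocone.triangle φ) q₀ q₁ h

/-- Exactness of `H^{q₀}(K) → H^{q₀}(L) → H^{q₁}(cocone)`. -/
theorem exact_L (q₀ q₁ : ℤ) (h : q₀ + 1 = q₁) :
    Function.Exact (HomologicalComplex.homologyMap φ q₀).hom (δ φ q₀ q₁ h).hom := by
  have := CochainComplex.homologyMap_exact₃_of_distTriang _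
    (DerivedCategory.mappingCocone_triangle_distinguished φ) q₀ q₁ h
  rw [ShortComplex.ShortExact.moduleCat_exact_iff_function_exact] at this
  exact this

/-- Exactness of `H^{q₀}(L) → H^{q₁}(cocone) → H^{q₁}(K)`. -/
theorem exact_C (q₀ q₁ : ℤ) (h : q₀ + 1 = q₁) :
    Function.Exact (δ φ q₀ q₁ h).hom
      (HomologicalComplex.homologyMap (CochainComplex.mappingCocone.fst φ) q₁).hom := by
  have := CochainComplex.homologyMap_exact₁_of_distTriang _
    (DerivedCategory.mappingCocone_triangle_distinguished φ) q₀ q₁ h
  rw [ShortComplex.ShortExact.moduleCat_exact_iff_function_exact] at this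
  exact this

/-- Exactness of `H^q(cocone) → H^q(K) → H^q(L)`. -/
theorem exact_K (q : ℤ) :
    Function.Exact (HomologicalComplex.homologyMap (CochainComplex.mappingCocone.fst φ) q).hom
      (HomologicalComplex.homologyMap φ q).hom := by
  have := CochainComplex.homologyMap_exact₂_of_distTriang _
    (DerivedCategory.mappingCocone_triangle_distinguished φ) q
  rw [ShortComplex.ShortExact.moduleCat_exact_iff_function_exact] at this
  exact this

end LES

end K171.Cech
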