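import Groth.Agent.CalgA.DimFormula2
import Groth.Agent.Flat2C.ReesGrading
import Groth.Agent.LoccohA.RatliffC
import Mathlib.RingTheory.GradedAlgebra.Radical
import Mathlib.RingTheory.Ideal.KrullsHeightTheorem
import Mathlib.RingTheory.Nakayama
import Mathlib.RingTheory.AlgebraicIndependent.Transcendental

/-!
# Dimensions in the Rees algebra of an ideal in a universally catenary domain
-/

set_option autoImplicit false
universe u

open IsLocalRing Polynomial

namespace K171.ReesDim

open Groth.Agent Groth.Agent.Flat2C.ReesGrading Groth.Agent.Ega4B.CatHeight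

variable {R : Type u} [CommRing R] (I : Ideal R)

/-- `a t` in the Rees algebra. -/
noncomputable def at' (a : R) (ha : a ∈ I) : reesAlgebra I := mon I 1 a (by simpa using ha)

theorem smul_at' {a b : R} (ha : a ∈ I) (hb : b ∈ I) :
    algebraMap R (reesAlgebra I) b * at' I a ha = algebraMap R (reesAlgebra I) a * at' I b hb := by
  apply Subtype.ext
  change (C b : R[X]) * monomial 1 a = C a * monomial 1 b
  rw [C_mul_monomial, C_mul_monomial, mul_comm]

theorem coeff_mem_of_mem_map {J : Ideal R} {f : reesAlgebra I}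
    (hf : f ∈ J.map (algebraMap R (reesAlgebra I))) (n : ℕ) :
    (f : R[X]).coeff n ∈ J * I ^ n := by
  revert n
  refine Submodule.span_induction (p := fun f _ => ∀ n, ((f : reesAlgebra I) : R[X]).coeff n ∈ J * I ^ n)
    ?_ ?_ ?_ ?_ hf
  · rintro _ ⟨r, hr, rfl⟩ n
    change (C r : R[X]).coeff n ∈ _
    rw [coeff_C]
    split_ifs with h
    · subst h
      simpa using hr
    · exact zero_mem _
  · intro n
    simp
  · intro x y _ _ hx hy n
    have : (((x + y : reesAlgebra I)) : R[X]).coeff n = (x : R[X]).coeff n + (y : R[X]).coeff n := by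
      simp
    rw [this]
    exact add_mem (hx n) (hy n)
  · intro a x _ hx n
    have : (((a • x : reesAlgebra I)) : R[X]).coeff n =
        ∑ p ∈ Finset.antidiagonal n, (a : R[X]).coeff p.1 * (x : R[X]).coeff p.2 := by
      rw [← coeff_mul]
      rfl
    rw [this]
    refine Ideal.sum_mem _ fun p hp => ?_
    rw [Finset.mem_antidiagonal] at hp
    rw [← hp, pow_add, mul_left_comm]
    exact Ideal.mul_mem_mul (a.2 _) (hx _)

/-- The degree zero coefficient. -/
noncomputable def co : reesAlgebra I →+* R :=
  (constantCoeff : R[X] →+* R).comp (reesAlgebra I).subtype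

theorem co_apply (f : reesAlgebra I) : co I f = (f : R[X]).coeff 0 := by
  simp [co]

theorem co_algebraMap (r : R) : co I (algebraMap R (reesAlgebra I) r) = r := by
  rw [co_apply]
  change (C r : R[X]).coeff 0 = r
  simp

/-- The ideal generated by the elements of degree one. -/
noncomputable def irr : Ideal (reesAlgebra I) := Ideal.span (Set.range fun a : I => at' I a.1 a.2)

theorem mon_mem_irr_pow (n : ℕ) (x : R) (hx : x ∈ I ^ n) : mon I n x hx ∈ irr I ^ n := by
  revert x
  induction n with
  | zero =>
    intro x hx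
    simp
  | succ n ih =>
    suffices h : ∀ x ∈ I ^ n * I, ∃ f ∈ irr I ^ (n + 1), (f : R[X]) = monomial (n + 1) x by
      intro x hx
      obtain ⟨f, hf, e⟩ := h x (by rwa [← pow_succ])
      convert hf using 1
      exact Subtype.ext e.symm
    intro x hx
    refine Submodule.mul_induction_on hx ?_ ?_
    · intro y hy a ha
      refine ⟨mon I n y hy * at' I a ha, ?_, ?_⟩
      · rw [pow_succ]
        exact Ideal.mul_mem_mul (ih y hy) (Ideal.subset_span ⟨⟨a, ha⟩, rfl⟩)
      · change monomial n y * monomial 1 a = _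
        rw [monomial_mul_monomial]
    · rintro x y ⟨f, hf, e⟩ ⟨g, hg, e'⟩
      refine ⟨f + g, add_mem hf hg, ?_⟩
      rw [map_add, ← e, ← e']
      rfl

theorem sub_co_mem (f : reesAlgebra I) : f - algebraMap R (reesAlgebra I) (co I f) ∈ irr I := by
  have key : ∀ (s : Finset ℕ) (g : reesAlgebra I), (g : R[X]).support ⊆ s → (g : R[X]).coeff 0 = 0 →
      g ∈ irr I := by
    intro s
    induction s using Finset.induction with
    | empty =>
      intro g hg _
      have : (g : R[X]) = 0 := by
        rw [← support_eq_empty]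
        exact Finset.subset_empty.1 hg
      have h0 : g = 0 := Subtype.ext this
      rw [h0]
      exact zero_mem _
    | insert i s hi ih =>
      intro g hg h0
      have h1 : g - mon I i ((g : R[X]).coeff i) (g.2 i) ∈ irr I := by
        refine ih _ (fun j hj => ?_) ?_
        · rw [mem_support_iff] at hj
          have hj' : (g : R[X]).coeff j - (monomial i ((g : R[X]).coeff i)).coeff j ≠ 0 := by
            simpa [coe_mon] using hj
          have hji : j ≠ i := by
            rintro rfl
            simp at hj'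
          rw [coeff_monomial, if_neg (Ne.symm hji), sub_zero] at hj'
          have := hg (mem_support_iff.2 hj')
          exact (Finset.mem_insert.1 this).resolve_left hji
        · have : ((g - mon I i ((g : R[X]).coeff i) (g.2 i) : reesAlgebra I) : R[X]).coeff 0 =
              (g : R[X]).coeff 0 - (monomial i ((g : R[X]).coeff i)).coeff 0 := by
            simp [coe_mon]
          rw [this, h0, coeff_monomial]
          split_ifs with hi0
          · rw [hi0, h0]; simp
          · simp
      have h2 : mon I i ((g : R[X]).coeff i) (g.2 i) ∈ irr I := by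
        rcases Nat.eq_zero_or_pos i with hi0 | hi0
        · have : mon I i ((g : R[X]).coeff i) (g.2 i) = 0 := by
            apply Subtype.ext
            rw [coe_mon, hi0, h0]
            simp
          rw [this]
          exact zero_mem _
        · exact Ideal.pow_le_self hi0.ne' (mon_mem_irr_pow I i _ _)
      have := add_mem h1 h2
      simpa using this
  refine key _ _ subset_rfl ?_
  have : ((f - algebraMap R (reesAlgebra I) (co I f) : reesAlgebra I) : R[X]).coeff 0 =
      (f : R[X]).coeff 0 - (C (co I f) : R[X]).coeff 0 := by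
    have : ((algebraMap R (reesAlgebra I) (co I f) : reesAlgebra I) : R[X]) = C (co I f) := rfl
    rw [← this]
    simp
  rw [this, co_apply]
  simp

section MinPrime

variable [IsDomain R] [IsNoetherianRing R]

/-- Below a prime containing `I`, there is a minimal prime of `I` in the Rees algebra which does
not contain all the elements of degree one. -/
theorem exists_minimalPrime (hI : I ≠ ⊥) (P : Ideal (reesAlgebra I)) [P.IsPrime]
    (hP : I.map (algebraMap R (reesAlgebra I)) ≤ P) :
    ∃ P0 ∈ (I.map (algebraMap R (reesAlgebra I))).minimalPrimes, P0 ≤ P ∧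
      ∃ (a : R) (ha : a ∈ I), at' I a ha ∉ P0 := by
  by_contra hcon
  push Not at hcon
  set J := I.map (algebraMap R (reesAlgebra I)) with hJ
  set p := P.comap (algebraMap R (reesAlgebra I)) with hp
  have hIp : I ≤ p := Ideal.map_le_iff_le_comap.1 hP
  have hirr : ∀ P0 ∈ J.minimalPrimes, P0 ≤ P → irr I ≤ P0 := by
    intro P0 h1 h2
    rw [irr, Ideal.span_le]
    rintro _ ⟨a, rfl⟩
    exact hcon P0 h1 h2 a.1 a.2
  have hirrP : irr I ≤ P := by
    obtain ⟨P0, h1, h2⟩ := Ideal.exists_minimalPrimes_le hP
    exact (hirr P0 h1 h2).trans h2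
  have hrad : (irr I).map (algebraMap _ (Localization.AtPrime P)) ≤
      (J.map (algebraMap _ (Localization.AtPrime P))).radical := by
    rw [Ideal.radical_eq_sInf, le_sInf_iff]
    rintro Q ⟨hQ, hQp⟩
    rw [Ideal.map_le_iff_le_comap]
    have h1 : J ≤ Q.comap (algebraMap (reesAlgebra I) (Localization.AtPrime P)) :=
      Ideal.map_le_iff_le_comap.1 hQ
    have hQ' : (Q.comap (algebraMap (reesAlgebra I) (Localization.AtPrime P))).IsPrime :=
      Ideal.IsPrime.comap _
    obtain ⟨P0, h2, h3⟩ := Ideal.exists_minimalPrimes_le h1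
    have h4 : Q.comap (algebraMap (reesAlgebra I) (Localization.AtPrime P)) ≤ P := by
      have := ((IsLocalization.AtPrime.orderIsoOfPrime (Localization.AtPrime P) P) ⟨Q, hQp⟩).2.2
      exact this
    exact (hirr P0 h2 (h3.trans h4)).trans h3
  obtain ⟨N, hN⟩ := Ideal.exists_pow_le_of_le_radical_of_fg hrad (Ideal.fg_of_isNoetherianRing _)
  -- the key divisibility
  have key : ∀ x ∈ I ^ N, ∃ u : R, u ∉ p ∧ u * x ∈ I ^ (N + 1) := by
    intro x hx
    have h1 : algebraMap _ (Localization.AtPrime P) (mon I N x hx) ∈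
        J.map (algebraMap _ (Localization.AtPrime P)) := by
      apply hN
      rw [← Ideal.map_pow]
      exact Ideal.mem_map_of_mem _ (mon_mem_irr_pow I N x hx)
    rw [IsLocalization.algebraMap_mem_map_algebraMap_iff P.primeCompl] at h1
    obtain ⟨u, hu, hux⟩ := h1
    refine ⟨co I u, ?_, ?_⟩
    · intro hmem
      apply hu
      have h2 := hirrP (sub_co_mem I u)
      have h3 : algebraMap R (reesAlgebra I) (co I u) ∈ P := hmem
      have := add_mem h2 h3
      simpa using this
    · have h2 := coeff_mem_of_mem_map I hux N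
      have h3 : ((u * mon I N x hx : reesAlgebra I) : R[X]).coeff N = co I u * x := by
        change ((u : R[X]) * monomial N x).coeff N = _
        rw [co_apply]
        have := coeff_mul_monomial (u : R[X]) N 0 x
        rwa [zero_add] at this
      rw [h3] at h2
      rwa [pow_succ', ]
  have hbot : (I ^ N).map (algebraMap R (Localization.AtPrime p)) = ⊥ := by
    refine Submodule.eq_bot_of_le_smul_of_le_jacobson_bot
      (I.map (algebraMap R (Localization.AtPrime p))) _ (Ideal.fg_of_isNoetherianRing _) ?_ ?_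
    · rw [smul_eq_mul, ← Ideal.map_mul, ← pow_succ', Ideal.map_le_iff_le_comap]
      intro x hx
      obtain ⟨u, hu, hux⟩ := key x hx
      rw [Ideal.mem_comap, IsLocalization.algebraMap_mem_map_algebraMap_iff p.primeCompl]
      exact ⟨u, hu, hux⟩
    · rw [IsLocalRing.jacobson_eq_maximalIdeal _ bot_ne_top, Ideal.map_le_iff_le_comap]
      intro x hx
      rw [Ideal.mem_comap]
      exact (IsLocalization.AtPrime.to_map_mem_maximal_iff _ p x).2 (hIp hx)
  have hinj : Function.Injective (algebraMap R (Localization.AtPrime p)) :=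
    IsLocalization.injective _ p.primeCompl_le_nonZeroDivisors
  rw [Ideal.map_eq_bot_iff_of_injective hinj] at hbot
  refine hI ((Submodule.eq_bot_iff _).2 fun a ha => ?_)
  have h1 : a ^ N ∈ I ^ N := Ideal.pow_mem_pow ha N
  rw [hbot] at h1
  exact eq_zero_of_pow_eq_zero (n := N) h1

omit [IsDomain R] in
/-- A minimal prime of `I` in the Rees algebra not containing `at` has height at most one. -/
theorem height_le_one (P0 : Ideal (reesAlgebra I))
    (h0 : P0 ∈ (I.map (algebraMap R (reesAlgebra I))).minimalPrimes) {a : R} (ha : a ∈ I)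
    (haP : at' I a ha ∉ P0) : P0.height ≤ 1 := by
  refine Ideal.height_le_one_of_isPrincipal_of_mem_minimalPrimes
    (Ideal.span {algebraMap R (reesAlgebra I) a}) P0 ⟨⟨h0.1.1, ?_⟩, ?_⟩
  · rw [Ideal.span_singleton_le_iff_mem]
    exact h0.1.2 (Ideal.mem_map_of_mem _ ha)
  · rintro P' ⟨hP', haP'⟩ hle
    refine h0.2 ⟨hP', ?_⟩ hle
    rw [Ideal.map_le_iff_le_comap]
    intro b hb
    rw [Ideal.span_singleton_le_iff_mem] at haP'
    have h1 : algebraMap R (reesAlgebra I) b * at' I a ha ∈ P' := by
      rw [smul_at' I ha hb]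
      exact Ideal.mul_mem_right _ _ haP'
    exact (hP'.mem_or_mem h1).resolve_right fun h => haP (hle h)

end MinPrime

section Surj

variable {S T : Type*} [CommRing S] [CommRing T]

/-- Heights in quotient rings. -/
theorem height_map_mk_anti {J P0 P : Ideal S} [P0.IsPrime] [P.IsPrime] (h1 : J ≤ P0) (h2 : P0 ≤ P) :
    (P.map (Ideal.Quotient.mk P0)).height ≤ (P.map (Ideal.Quotient.mk J)).height := by
  have hP : (P.map (Ideal.Quotient.mk P0)).IsPrime :=
    Ideal.map_isPrime_of_surjective Ideal.Quotient.mk_surjective (by simpa using h2)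
  have hPJ : (P.map (Ideal.Quotient.mk J)).IsPrime :=
    Ideal.map_isPrime_of_surjective Ideal.Quotient.mk_surjective (by simpa using h1.trans h2)
  let f : S ⧸ J →+* S ⧸ P0 := Ideal.Quotient.factor h1
  have hf : Function.Surjective f := Ideal.Quotient.factor_surjective h1
  have hker : (RingHom.ker f).IsPrime := RingHom.ker_isPrime f
  have h := rlen_comap_eq_height (f := f) hf ⟨RingHom.ker f, hker⟩ rfl ⟨_, hP⟩
  have h' := rlen_le_height (⟨RingHom.ker f, hker⟩ : PrimeSpectrum (S ⧸ J))
    (PrimeSpectrum.comap f ⟨_, hP⟩)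
  rw [h] at h'
  refine h'.trans (le_of_eq ?_)
  congr 1
  change (P.map (Ideal.Quotient.mk P0)).comap f = P.map (Ideal.Quotient.mk J)
  have e1 : ((P.map (Ideal.Quotient.mk P0)).comap f).comap (Ideal.Quotient.mk J) = P := by
    rw [Ideal.comap_comap]
    have : f.comp (Ideal.Quotient.mk J) = Ideal.Quotient.mk P0 := by
      ext x
      rfl
    rw [this, Ideal.comap_map_of_surjective _ Ideal.Quotient.mk_surjective,
      ← RingHom.ker_eq_comap_bot, Ideal.mk_ker]
    exact sup_eq_left.mpr h2
  rw [← e1, Ideal.map_comap_of_surjective _ Ideal.Quotient.mk_surjective, e1]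

/-- `ht I + ht (p/I) ≤ ht p`. -/
theorem height_add_height_map_le (I p : Ideal S) [IsNoetherianRing S] [p.IsPrime] (h : I ≤ p) :
    (p.map (Ideal.Quotient.mk I)).height + I.height ≤ p.height := by
  have hp' : (p.map (Ideal.Quotient.mk I)).IsPrime :=
    Ideal.map_isPrime_of_surjective Ideal.Quotient.mk_surjective (by simpa using h)
  obtain ⟨s, hs1, hs2⟩ := Ideal.exists_ltSeries_length_eq_height (p.map (Ideal.Quotient.mk I))
  let s' : LTSeries (PrimeSpectrum S) := s.map (PrimeSpectrum.comap (Ideal.Quotient.mk I))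
    (fun a b hab => by
      refine lt_of_le_of_ne (Ideal.comap_mono hab.le) fun h => hab.ne ?_
      exact PrimeSpectrum.comap_injective_of_surjective _ Ideal.Quotient.mk_surjective h)
  have hlast : s'.last = ⟨p, ‹_›⟩ := by
    have : s'.last = PrimeSpectrum.comap (Ideal.Quotient.mk I) s.last := rfl
    rw [this, hs1]
    ext1
    change (p.map (Ideal.Quotient.mk I)).comap (Ideal.Quotient.mk I) = p
    rw [Ideal.comap_map_of_surjective _ Ideal.Quotient.mk_surjective,
      ← RingHom.ker_eq_comap_bot, Ideal.mk_ker]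
    exact sup_eq_left.mpr h
  have hhead : I ≤ s'.head.asIdeal := by
    have : s'.head = PrimeSpectrum.comap (Ideal.Quotient.mk I) s.head := rfl
    rw [this]
    intro x hx
    change Ideal.Quotient.mk I x ∈ s.head.asIdeal
    rw [Ideal.Quotient.eq_zero_iff_mem.2 hx]
    exact zero_mem _
  obtain ⟨t, ht1, ht2⟩ := Ideal.exists_ltSeries_length_eq_height s'.head.asIdeal
  have hts : t.last = s'.head := ht1
  have h3 := Order.length_le_height_last (p := t.smash s' hts)
  rw [RelSeries.last_smash, hlast, ← PrimeSpectrum.height_eq_orderHeight] at h3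
  refine le_trans ?_ h3
  rw [RelSeries.smash_length, Nat.cast_add, ht2, add_comm]
  refine add_le_add (Ideal.height_mono hhead) ?_
  rw [← hs2]
  exact le_rfl

end Surj

section Trdeg

instance : FaithfulSMul R (reesAlgebra I) :=
  (faithfulSMul_iff_algebraMap_injective R _).2 fun a b h => by
    have := congrArg (co I) h
    simpa only [co_algebraMap] using this

theorem trdeg_rees_pos [IsDomain R] (hI : I ≠ ⊥) : 0 < Algebra.trdeg R (reesAlgebra I) := by
  obtain ⟨a, ha, ha0⟩ := Submodule.exists_mem_ne_zero_of_ne_bot hI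
  have : Algebra.Transcendental R (reesAlgebra I) := by
    refine ⟨⟨at' I a ha, ?_⟩⟩
    rw [transcendental_iff]
    intro f hf
    ext n
    have h1 : (reesAlgebra I).val (aeval (at' I a ha) f) = 0 := by
      rw [hf, map_zero]
    rw [← aeval_algHom_apply] at h1
    have h2 : (reesAlgebra I).val (at' I a ha) = C a * X := by
      change monomial 1 a = _
      rw [← C_mul_X_pow_eq_monomial, pow_one]
    rw [h2] at h1
    have h3 := congrArg (fun g => g.coeff n) h1
    simp only [coeff_zero] at h3
    rw [aeval_eq_sum_range, finsetSum_coeff] at h3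
    have h4 : ∀ i, (f.coeff i • (C a * X : R[X]) ^ i).coeff n = if i = n then f.coeff n * a ^ n else 0 := by
      intro i
      rw [mul_pow, ← C_pow, coeff_smul, coeff_C_mul, coeff_X_pow]
      by_cases h : i = n
      · subst h
        simp
      · rw [if_neg h, if_neg (Ne.symm h)]
        simp
    simp only [h4, Finset.sum_ite_eq'] at h3
    rw [coeff_zero]
    split_ifs at h3 with h5
    · exact (mul_eq_zero.1 h3).resolve_right (pow_ne_zero _ ha0)
    · rw [Finset.mem_range, not_lt] at h5
      exact coeff_eq_zero_of_natDegree_lt (by omega)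
  exact _root_.trdeg_pos R _

/-- The minimal primes of the extension of a prime are below the vertex. -/
theorem le_vertex {p P1 : Ideal (reesAlgebra I)} {q : Ideal R}
    (hp : p = q.map (algebraMap R (reesAlgebra I))) (h1 : P1 ∈ p.minimalPrimes) :
    ∀ f ∈ P1, algebraMap R (reesAlgebra I) (co I f) ∈ P1 := by
  have hP1 : P1.IsPrime := h1.1.1
  have hcore := Ideal.IsPrime.homogeneousCore (𝒜 := grading I) hP1
  have hle : (P1.homogeneousCore (grading I)).toIdeal = P1 := by
    refine le_antisymm (Ideal.toIdeal_homogeneousCore_le _ _) (h1.2 ⟨hcore, ?_⟩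
      (Ideal.toIdeal_homogeneousCore_le _ _))
    rw [hp, Ideal.map_le_iff_le_comap]
    intro x hx
    refine Ideal.mem_homogeneousCore_of_homogeneous_of_mem ⟨0, ?_⟩ ?_
    · intro i hi
      change (C x : R[X]).coeff i = 0
      rw [coeff_C, if_neg hi]
    · refine h1.1.2 ?_
      rw [hp]
      exact Ideal.mem_map_of_mem _ hx
  have hhom : P1.IsHomogeneous (grading I) := by
    rw [← hle]
    exact HomogeneousIdeal.isHomogeneous _
  intro f hf
  have h2 := hhom 0 hf
  have h3 : ((DirectSum.decompose (grading I) f 0 : grading I 0) : reesAlgebra I) =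
      algebraMap R (reesAlgebra I) (co I f) := by
    have : DirectSum.decompose (grading I) f = decomp I f := rfl
    rw [this, decomp_eq_sum_range I f (insert 0 (f : R[X]).support) (Finset.subset_insert _ _),
      DFinsupp.finsetSum_apply, AddSubmonoidClass.coe_finsetSum, Finset.sum_eq_single 0]
    · rw [DirectSum.of_eq_same]
      apply Subtype.ext
      rw [coe_mon, co_apply]
      rfl
    · intro i _ hi
      rw [DirectSum.of_eq_of_ne _ _ _ hi.symm]
      rfl
    · intro h
      exact absurd (Finset.mem_insert_self _ _) h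
  rwa [h3] at h2

/-- Dimensions of fibres and quotients. -/
theorem ringKrullDim_quotient_map_le {R S A D : Type*} [CommRing R] [CommRing S] [CommRing A]
    [CommRing D] [Algebra R S] [Algebra A D] (f : R →+* A) (h : S →+* D)
    (hh : Function.Surjective h)
    (hc : ∀ x, h (algebraMap R S x) = algebraMap A D (f x)) (m : Ideal R) (m' : Ideal A)
    (hm : m.map f ≤ m') :
    ringKrullDim (D ⧸ m'.map (algebraMap A D)) ≤ ringKrullDim (S ⧸ m.map (algebraMap R S)) := by
  have key : m.map (algebraMap R S) ≤ (m'.map (algebraMap A D)).comap h := by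
    rw [Ideal.map_le_iff_le_comap]
    intro x hx
    change h (algebraMap R S x) ∈ m'.map (algebraMap A D)
    rw [hc]
    exact Ideal.mem_map_of_mem _ (hm (Ideal.mem_map_of_mem _ hx))
  exact ringKrullDim_le_of_surjective (Ideal.quotientMap _ h key)
    (Ideal.quotientMap_surjective hh)

/-- A finitely generated graded domain over a universally catenary local domain has generic
dimension at most the dimension of the special fibre. -/
theorem trdeg_le_of_retraction {A D : Type u} [CommRing A] [IsDomain A] [IsNoetherianRing A]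
    [IsLocalRing A] (hA : CAlg.IsUniversallyCatenary A) [CommRing D] [IsDomain D] [Algebra A D]
    [FaithfulSMul A D] [Algebra.FiniteType A D] (g : D →+* A) (hg : ∀ a : A, g (algebraMap A D a) = a) :
    ∃ t : ℕ, Algebra.trdeg A D = t ∧
      (t : WithBot ℕ∞) ≤ ringKrullDim (D ⧸ (maximalIdeal A).map (algebraMap A D)) := by
  have : IsNoetherianRing D := Algebra.FiniteType.isNoetherianRing A D
  let Q : Ideal D := (maximalIdeal A).comap g
  have hQ : Q.IsPrime := Ideal.IsPrime.comap g
  have hQA : Q.LiesOver (maximalIdeal A) := ⟨by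
    ext a
    change a ∈ maximalIdeal A ↔ g (algebraMap A D a) ∈ maximalIdeal A
    rw [hg]⟩
  have halg : Algebra.IsAlgebraic (A ⧸ maximalIdeal A) (D ⧸ Q) := by
    refine ⟨fun x => ?_⟩
    obtain ⟨x, rfl⟩ := Ideal.Quotient.mk_surjective x
    have h5 : Ideal.Quotient.mk Q x =
        algebraMap (A ⧸ maximalIdeal A) (D ⧸ Q) (Ideal.Quotient.mk _ (g x)) := by
      change Ideal.Quotient.mk Q x = Ideal.Quotient.mk Q (algebraMap A D (g x))
      rw [Ideal.Quotient.eq]
      change g (x - algebraMap A D (g x)) ∈ maximalIdeal A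
      rw [map_sub, hg, sub_self]
      exact zero_mem _
    rw [h5]
    exact isAlgebraic_algebraMap _
  obtain ⟨hq, hp, tD, t', e1, e2, e3, e4, -, e6⟩ :=
    CalgA.DimFormula2.exists_dimension_formula (maximalIdeal A) Q
  have e5 := e6 hA
  have ht' : t' = 0 := by
    have := trdeg_eq_zero (R := A ⧸ maximalIdeal A) (A := D ⧸ Q)
    rw [this] at e4
    exact_mod_cast e4.symm
  refine ⟨tD, e3, ?_⟩
  have h6 := Ideal.height_le_height_add_of_liesOver (maximalIdeal A) Q
  have h7 : (tD : ℕ∞) ≤
      (Q.map (Ideal.Quotient.mk ((maximalIdeal A).map (algebraMap A D)))).height := by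
    rw [e1, e2] at h6
    have h8 : ((hp : ℕ∞) + tD) = hq := by
      exact_mod_cast (by omega : hp + tD = hq)
    rw [← h8] at h6
    exact (ENat.add_le_add_iff_left (ENat.natCast_ne_top hp)).1 h6
  have hQ' : (Q.map (Ideal.Quotient.mk ((maximalIdeal A).map (algebraMap A D)))).IsPrime := by
    refine Ideal.map_isPrime_of_surjective Ideal.Quotient.mk_surjective ?_
    rw [Ideal.mk_ker, Ideal.map_le_iff_le_comap]
    exact (Ideal.LiesOver.over (p := maximalIdeal A) (P := Q)).le
  have h9 : ((Q.map (Ideal.Quotient.mk ((maximalIdeal A).map (algebraMap A D)))).height :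
      WithBot ℕ∞) ≤ ringKrullDim (D ⧸ (maximalIdeal A).map (algebraMap A D)) :=
    Ideal.height_le_ringKrullDim_of_ne_top hQ'.ne_top
  refine le_trans ?_ h9
  exact_mod_cast h7

/-- Transcendence degrees of residue fields above `p`. -/
theorem trdeg_le_aux {R S : Type u} [CommRing R] [IsNoetherianRing R] [IsLocalRing R] [CommRing S]
    [Algebra R S] [Algebra.FiniteType R S] (huc : CAlg.IsUniversallyCatenary R) (p : Ideal R)
    [p.IsPrime] (P1 P : Ideal S) [P1.IsPrime] [P.IsPrime] (h : P1 ≤ P) [P1.LiesOver p]
    [P.LiesOver p] (g : S →+* R) (hg : ∀ a : R, g (algebraMap R S a) = a)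
    (hgP : ∀ f ∈ P1, g f ∈ p) (t : ℕ) (ht : Algebra.trdeg (R ⧸ p) (S ⧸ P) = t) :
    (t : WithBot ℕ∞) ≤ ringKrullDim (S ⧸ (maximalIdeal R).map (algebraMap R S)) := by
  have hA : CAlg.IsUniversallyCatenary (R ⧸ p) :=
    Groth.Agent.LoccohA.RatliffC.isUniversallyCatenary_quotient R huc p
  have hlocA : IsLocalRing (R ⧸ p) :=
    IsLocalRing.of_surjective' (Ideal.Quotient.mk p) Ideal.Quotient.mk_surjective
  have hft0 : Algebra.FiniteType R (S ⧸ P1) := inferInstance
  have hft : Algebra.FiniteType (R ⧸ p) (S ⧸ P1) :=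
    Algebra.FiniteType.of_restrictScalars_finiteType R (R ⧸ p) (S ⧸ P1)
  -- the retraction
  let g' : (S ⧸ P1) →+* (R ⧸ p) :=
    Ideal.Quotient.lift P1 ((Ideal.Quotient.mk p).comp g) (fun f hf =>
      Ideal.Quotient.eq_zero_iff_mem.2 (hgP f hf))
  have hg' : ∀ a : R ⧸ p, g' (algebraMap (R ⧸ p) (S ⧸ P1) a) = a := by
    intro a
    obtain ⟨a, rfl⟩ := Ideal.Quotient.mk_surjective a
    change Ideal.Quotient.mk p (g (algebraMap R S a)) = _
    rw [hg]
  obtain ⟨tD, htD, htD'⟩ := trdeg_le_of_retraction (A := R ⧸ p) (D := S ⧸ P1) hA g' hg'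
  have hle : t ≤ tD := by
    let f : (S ⧸ P1) →ₐ[R ⧸ p] S ⧸ P :=
      { Ideal.Quotient.factor h with
        commutes' := fun a => by
          obtain ⟨a, rfl⟩ := Ideal.Quotient.mk_surjective a
          rfl }
    have hf : Function.Surjective f := Ideal.Quotient.factor_surjective h
    have := _root_.trdeg_le_of_surjective f hf
    rw [ht, htD] at this
    exact_mod_cast this
  calc (t : WithBot ℕ∞) ≤ (tD : WithBot ℕ∞) := by exact_mod_cast hle
    _ ≤ _ := htD'
    _ ≤ _ := ringKrullDim_quotient_map_le (R := R) (S := S) (A := R ⧸ p)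
      (D := S ⧸ P1) (Ideal.Quotient.mk p) (Ideal.Quotient.mk P1)
      Ideal.Quotient.mk_surjective (fun _ => rfl) (maximalIdeal R) (maximalIdeal (R ⧸ p))
      (IsLocalRing.map_maximalIdeal_of_surjective _ Ideal.Quotient.mk_surjective).le

variable [IsDomain R] [IsNoetherianRing R] [IsLocalRing R]

omit [IsDomain R] in
/-- The transcendence degree of the residue field extensions in the Rees algebra is bounded by the
dimension of the special fibre. -/
theorem trdeg_le (huc : CAlg.IsUniversallyCatenary R) (P : Ideal (reesAlgebra I)) [P.IsPrime]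
    (p : Ideal R) [p.IsPrime] [P.LiesOver p] (t : ℕ)
    (ht : Algebra.trdeg (R ⧸ p) (reesAlgebra I ⧸ P) = t) :
    (t : WithBot ℕ∞) ≤ ringKrullDim (reesAlgebra I ⧸
      (maximalIdeal R).map (algebraMap R (reesAlgebra I))) := by
  have hpP : p.map (algebraMap R (reesAlgebra I)) ≤ P := by
    rw [Ideal.map_le_iff_le_comap, Ideal.LiesOver.over (p := p) (P := P)]
  obtain ⟨P1, h1, h2⟩ := Ideal.exists_minimalPrimes_le hpP
  have hP1 : P1.IsPrime := h1.1.1
  have hcomap : P1.comap (algebraMap R (reesAlgebra I)) = p := by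
    refine le_antisymm ?_ (Ideal.map_le_iff_le_comap.1 h1.1.2)
    have := Ideal.LiesOver.over (p := p) (P := P)
    rw [this]
    exact Ideal.comap_mono h2
  have hP1p : P1.LiesOver p := ⟨hcomap.symm⟩
  refine trdeg_le_aux huc p P1 P h2 (co I) (co_algebraMap I) (fun f hf => ?_) t ht
  have h3 : algebraMap R (reesAlgebra I) (co I f) ∈ P1 := le_vertex I rfl h1 f hf
  have h4 : co I f ∈ P1.comap (algebraMap R (reesAlgebra I)) := h3
  rwa [hcomap] at h4

/-- The key dimension estimate. -/
theorem height_comap_le (huc : CAlg.IsUniversallyCatenary R) (P : Ideal (reesAlgebra I)) [P.IsPrime]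
    (hP : I.map (algebraMap R (reesAlgebra I)) ≤ P) :
    (((P.comap (algebraMap R (reesAlgebra I))).height : ℕ∞) : WithBot ℕ∞) ≤
      (((P.map (Ideal.Quotient.mk (I.map (algebraMap R (reesAlgebra I))))).height : ℕ∞) :
        WithBot ℕ∞) +
      ringKrullDim (reesAlgebra I ⧸ (maximalIdeal R).map (algebraMap R (reesAlgebra I))) := by
  set p := P.comap (algebraMap R (reesAlgebra I)) with hp
  have hPp : P.LiesOver p := ⟨rfl⟩
  obtain ⟨h, h', T, t, e1, e2, e3, e4, -, e6⟩ := CalgA.DimFormula2.exists_dimension_formula p P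
  have e5 := e6 huc
  have h1 := trdeg_le I huc P p t e4
  -- `ht P ≤ ht (P/I) + T`
  have h2 : P.height ≤
      (P.map (Ideal.Quotient.mk (I.map (algebraMap R (reesAlgebra I))))).height + T := by
    by_cases hI : I = ⊥
    · have hbot : I.map (algebraMap R (reesAlgebra I)) = ⊥ := by
        rw [hI, Ideal.map_bot]
      have hb : (⊥ : Ideal (reesAlgebra I)).IsPrime := Ideal.isPrime_bot
      have h3 := height_eq_rlen_bot (⟨P, ‹_›⟩ : PrimeSpectrum (reesAlgebra I))
      have h4 := height_map_mk (⊥ : Ideal (reesAlgebra I)) P bot_le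
      have h5 := height_map_mk_anti (J := I.map (algebraMap R (reesAlgebra I))) (P0 := ⊥) (P := P)
        hbot.le bot_le
      rw [h4, h3] at h5
      exact h5.trans le_self_add
    · obtain ⟨P0, hP0, hle, a, ha, haP⟩ := exists_minimalPrime I hI P hP
      have hP0' : P0.IsPrime := hP0.1.1
      have h3 : P0.height ≤ 1 := height_le_one I P0 hP0 ha haP
      have hcat : CAlg.IsCatenary (reesAlgebra I) := huc.2 _ inferInstance
      have h4 := isCatenary_iff.1 hcat ⟨⊥, Ideal.isPrime_bot⟩ ⟨P0, hP0'⟩ ⟨P, ‹_›⟩ bot_le hle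
      rw [height_eq_rlen_bot, height_eq_rlen_bot, ← height_map_mk P0 P hle] at h4
      have h5 := height_map_mk_anti hP0.1.2 hle
      have hT : (1 : ℕ∞) ≤ T := by
        have := trdeg_rees_pos I hI
        rw [e3] at this
        have h6 : 0 < T := by exact_mod_cast this
        exact_mod_cast h6
      change P.height = P0.height + _ at h4
      rw [h4, add_comm]
      exact add_le_add h5 (h3.trans hT)
  have h3 : (h' : ℕ∞) ≤
      (P.map (Ideal.Quotient.mk (I.map (algebraMap R (reesAlgebra I))))).height + t := by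
    have h4 : (h' : ℕ∞) + T ≤
        (P.map (Ideal.Quotient.mk (I.map (algebraMap R (reesAlgebra I))))).height + t + T := by
      have h5 : (h' : ℕ∞) + T = h + t := by exact_mod_cast e5.symm
      rw [h5, ← e1, add_right_comm]
      exact add_le_add_left h2 _
    exact (ENat.add_le_add_iff_right (ENat.natCast_ne_top T)).1 h4
  rw [e2]
  calc (((h' : ℕ∞)) : WithBot ℕ∞) ≤ (((P.map (Ideal.Quotient.mk (I.map (algebraMap R
        (reesAlgebra I))))).height + t : ℕ∞) : WithBot ℕ∞) := by exact_mod_cast h3
    _ = (((P.map (Ideal.Quotient.mk (I.map (algebraMap R (reesAlgebra I))))).height : ℕ∞) :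
        WithBot ℕ∞) + (t : WithBot ℕ∞) := by
        push_cast
        rfl
    _ ≤ _ := add_le_add_right h1 _

end Trdeg

end K171.ReesDim
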