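import Groth.Agent.LocCoh.K171.CechCocone
import Groth.Agent.Localalg.Gam
import Mathlib.Algebra.FiveLemma
import Mathlib.Algebra.Homology.SingleHomology

/-!
# Vanishing of the cohomology of the extended Čech complex

* `isZero_neg`, `exists_H0` : negative degrees, degree zero (any commutative ring).
* `smul_bijective`, `isZero_of_smul_bijective`: an element of the list acting bijectively on `M` kills everything.
* `isZero_pos_of_injective`: injective modules over Noetherian rings.
-/

set_option autoImplicit false
universe u
open CategoryTheory CategoryTheory.Limits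

namespace K171.Cech

attribute [local instance] HasDerivedCategory.standard

open Groth.Agent.Localalg.Gam

variable {R : Type u} [CommRing R]

theorem isZero_iff_subsingleton (N : ModuleCat.{u} R) : IsZero N ↔ Subsingleton N :=
  ⟨fun h => ModuleCat.subsingleton_of_isZero h, fun _ => ModuleCat.isZero_of_subsingleton N⟩

/-- Vanishing of the middle term of the long exact sequence of the cocone. -/
theorem isZero_cocone (S : Submonoid R) (K : DRing.Cx R) (q₀ q₁ : ℤ) (h : q₀ + 1 = q₁)
    (hs : Function.Surjective (HomologicalComplex.homologyMap (DerCA.locCxUnit S K) q₀).hom)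
    (hi : Function.Injective (HomologicalComplex.homologyMap (DerCA.locCxUnit S K) q₁).hom) :
    IsZero ((CochainComplex.mappingCocone (DerCA.locCxUnit S K)).homology q₁) := by
  rw [isZero_iff_subsingleton]
  refine subsingleton_of_forall_eq 0 fun x => ?_
  have h1 := (exact_K (DerCA.locCxUnit S K) q₁).apply_apply_eq_zero x
  have h2 : (HomologicalComplex.homologyMap
      (CochainComplex.mappingCocone.fst (DerCA.locCxUnit S K)) q₁).hom x = 0 :=
    hi (h1.trans (map_zero _).symm)
  obtain ⟨z, rfl⟩ := (exact_C (DerCA.locCxUnit S K) q₀ q₁ h x).1 h2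
  obtain ⟨y, rfl⟩ := hs z
  exact (exact_L (DerCA.locCxUnit S K) q₀ q₁ h).apply_apply_eq_zero y

theorem isZero_neg (M : ModuleCat.{u} R) (fs : List R) (q : ℤ) (hq : q < 0) :
    IsZero (DerCA.extCechH fs M q) := by
  induction fs generalizing q with
  | nil => exact HomologicalComplex.isZero_single_obj_homology _ _ _ _ hq.ne
  | cons f fs ih =>
    refine isZero_cocone _ _ (q - 1) q (by lia) ?_ ?_
    · have := (isZero_iff_subsingleton _).1
        (isZero_homology_locCx (Submonoid.powers f) _ (q - 1) (ih (q - 1) (by lia)))
      exact fun z => ⟨0, Subsingleton.elim _ _⟩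
    · have := (isZero_iff_subsingleton _).1 (ih q hq)
      exact fun z w _ => Subsingleton.elim (α := (DerCA.extCech M fs).homology q) z w

/-- In degree zero, the cohomology of the extended Čech complex embeds in `M` with image the power torsion. -/
theorem exists_H0 (M : ModuleCat.{u} R) (fs : List R) :
    ∃ ι : DerCA.extCechH fs M 0 →ₗ[R] M, Function.Injective ι ∧
      LinearMap.range ι = gam (Ideal.span {x | x ∈ fs}) M := by
  induction fs with
  | nil =>
    let e : DerCA.extCechH [] M 0 ≃ₗ[R] M :=
      (HomologicalComplex.singleObjHomologySelfIso (ComplexShape.up ℤ) 0 M).toLinearEquiv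
    refine ⟨e.toLinearMap, e.injective, ?_⟩
    have h1 : Ideal.span {x : R | x ∈ ([] : List R)} = ⊥ := by simp
    rw [h1, gam_bot]
    exact LinearEquiv.range e
  | cons f fs ih =>
    obtain ⟨ι, hι, hr⟩ := ih
    have hinj : Function.Injective (HomologicalComplex.homologyMap
        (CochainComplex.mappingCocone.fst
          (DerCA.locCxUnit (Submonoid.powers f) (DerCA.extCech M fs))) 0).hom := by
      rw [injective_iff_map_eq_zero]
      intro x hx
      obtain ⟨z, rfl⟩ := (exact_C (DerCA.locCxUnit (Submonoid.powers f) (DerCA.extCech M fs))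
        (-1) 0 (by lia) x).1 hx
      have := (isZero_iff_subsingleton _).1 (isZero_homology_locCx (Submonoid.powers f) _ (-1)
        (isZero_neg M fs (-1) (by lia)))
      rw [Subsingleton.elim z 0, map_zero]
    refine ⟨ι ∘ₗ (HomologicalComplex.homologyMap
        (CochainComplex.mappingCocone.fst
          (DerCA.locCxUnit (Submonoid.powers f) (DerCA.extCech M fs))) 0).hom,
        hι.comp hinj, ?_⟩
    have hspan : Ideal.span {x | x ∈ f :: fs} = Ideal.span {f} ⊔ Ideal.span {x | x ∈ fs} := by
      rw [← Ideal.span_union]
      congr 1
      ext x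
      simp
    rw [hspan, gam_sup]
    ext m
    rw [Submodule.mem_inf, mem_gam_span_singleton, ← hr]
    constructor
    · rintro ⟨x, rfl⟩
      refine ⟨?_, ⟨_, rfl⟩⟩
      have h1 := (exact_K (DerCA.locCxUnit (Submonoid.powers f) (DerCA.extCech M fs))
        0).apply_apply_eq_zero x
      obtain ⟨s, ⟨n, rfl⟩, hs⟩ := (homologyMap_locCxUnit_eq_zero_iff (Submonoid.powers f)
        (DerCA.extCech M fs) 0 _).1 h1
      refine ⟨n, ?_⟩
      change f ^ n • ι _ = 0
      rw [← map_smul]
      exact (congrArg ι hs).trans (map_zero _)
    · rintro ⟨⟨n, hn⟩, ⟨y, rfl⟩⟩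
      rw [← map_smul] at hn
      have hn' : f ^ n • y = 0 := hι (hn.trans (map_zero _).symm)
      obtain ⟨x, hx⟩ := (exact_K (DerCA.locCxUnit (Submonoid.powers f) (DerCA.extCech M fs))
        0 y).1 ((homologyMap_locCxUnit_eq_zero_iff (Submonoid.powers f)
        (DerCA.extCech M fs) 0 _).2 ⟨f ^ n, ⟨n, rfl⟩, hn'⟩)
      exact ⟨x, congrArg ι hx⟩

section Bij

variable (f : R)

theorem localized_smul_bijective (S : Submonoid R) (N : Type u) [AddCommGroup N] [Module R N]
    (h : Function.Bijective (fun m : N => f • m)) :
    Function.Bijective (fun m : LocalizedModule S N => f • m) := by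
  constructor
  · have : Function.Injective (LinearMap.lsmul R (LocalizedModule S N) f) := by
      rw [injective_iff_map_eq_zero]
      intro x hx
      induction x using LocalizedModule.induction_on with
      | h a s =>
        change f • LocalizedModule.mk a s = 0 at hx
        rw [LocalizedModule.smul'_mk, ← LocalizedModule.zero_mk s, LocalizedModule.mk_eq] at hx
        obtain ⟨c, hc⟩ := hx
        rw [← LocalizedModule.zero_mk 1, LocalizedModule.mk_eq]
        refine ⟨c * s, ?_⟩
        simp only [Submonoid.smul_def, smul_zero, one_smul] at hc ⊢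
        apply h.1
        change f • _ = f • (0 : N)
        rw [smul_zero, Submonoid.coe_mul, mul_smul, smul_comm f, smul_comm f]
        exact hc
    exact this
  · intro x
    induction x using LocalizedModule.induction_on with
    | h a s =>
      obtain ⟨b, hb⟩ := h.2 a
      exact ⟨LocalizedModule.mk b s, by
        change f • LocalizedModule.mk b s = _
        rw [LocalizedModule.smul'_mk]; exact congrArg (fun t => LocalizedModule.mk t s) hb⟩

theorem smul_bijective_homology_locCx (S : Submonoid R) (K : DRing.Cx R) (q : ℤ)
    (h : Function.Bijective (fun m : K.homology q => f • m)) :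
    Function.Bijective (fun m : ((DerCA.locCx S).obj K).homology q => f • m) := by
  have h1 := localized_smul_bijective f S (K.homology q) h
  let e : ((DerCA.locCx S).obj K).homology q ≃ₗ[R] LocalizedModule S (K.homology q) :=
    (homLoc S K q).toLinearEquiv
  have h2 : (fun m : ((DerCA.locCx S).obj K).homology q => f • m) =
      e.symm ∘ (fun m : LocalizedModule S (K.homology q) => f • m) ∘ e := by
    ext m
    simp
  rw [h2]
  exact e.symm.bijective.comp (h1.comp e.bijective)

theorem smul_bijective (M : ModuleCat.{u} R) (fs : List R)
    (h : Function.Bijective (fun m : M => f • m)) (q : ℤ) :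
    Function.Bijective (fun m : DerCA.extCechH fs M q => f • m) := by
  induction fs generalizing q with
  | nil =>
    by_cases hq : q = 0
    · subst hq
      let e : DerCA.extCechH [] M 0 ≃ₗ[R] M :=
        (HomologicalComplex.singleObjHomologySelfIso (ComplexShape.up ℤ) 0 M).toLinearEquiv
      have h2 : (fun m : DerCA.extCechH [] M 0 => f • m) = e.symm ∘ (fun m : M => f • m) ∘ e := by
        ext m
        simp
      rw [h2]
      exact e.symm.bijective.comp (h.comp e.bijective)
    · have : Subsingleton (DerCA.extCechH [] M q) := (isZero_iff_subsingleton _).1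
        (HomologicalComplex.isZero_single_obj_homology _ _ _ _ hq)
      exact ⟨fun a b _ => Subsingleton.elim a b, fun a => ⟨0, Subsingleton.elim _ _⟩⟩
  | cons g gs ih =>
    have hK := ih
    have hL := fun q => smul_bijective_homology_locCx f (Submonoid.powers g) _ q (ih q)
    refine LinearMap.bijective_of_surjective_of_bijective_of_bijective_of_injective
      (HomologicalComplex.homologyMap (DerCA.locCxUnit (Submonoid.powers g) (DerCA.extCech M gs))
        (q - 1)).hom
      (δ (DerCA.locCxUnit (Submonoid.powers g) (DerCA.extCech M gs)) (q - 1) q (by lia)).hom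
      (HomologicalComplex.homologyMap (CochainComplex.mappingCocone.fst
          (DerCA.locCxUnit (Submonoid.powers g) (DerCA.extCech M gs))) q).hom
      (HomologicalComplex.homologyMap (DerCA.locCxUnit (Submonoid.powers g) (DerCA.extCech M gs))
        q).hom
      (HomologicalComplex.homologyMap (DerCA.locCxUnit (Submonoid.powers g) (DerCA.extCech M gs))
        (q - 1)).hom
      (δ (DerCA.locCxUnit (Submonoid.powers g) (DerCA.extCech M gs)) (q - 1) q (by lia)).hom
      (HomologicalComplex.homologyMap (CochainComplex.mappingCocone.fst
          (DerCA.locCxUnit (Submonoid.powers g) (DerCA.extCech M gs))) q).hom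
      (HomologicalComplex.homologyMap (DerCA.locCxUnit (Submonoid.powers g) (DerCA.extCech M gs))
        q).hom
      (LinearMap.lsmul R _ f) (LinearMap.lsmul R _ f) (LinearMap.lsmul R _ f)
      (LinearMap.lsmul R _ f) (LinearMap.lsmul R _ f)
      (by ext; simp) (by ext; simp) (by ext; simp) (by ext; simp)
      (exact_L _ _ _ _) (exact_C _ _ _ _) (exact_K _ _)
      (exact_L _ _ _ _) (exact_C _ _ _ _) (exact_K _ _) ?_ ?_ ?_ ?_
    · exact (hK (q - 1)).2
    · exact hL (q - 1)
    · exact hK q
    · exact (hL q).1

/-- Localisation at the powers of an element acting bijectively. -/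
theorem homologyMap_locCxUnit_bijective (K : DRing.Cx R) (q : ℤ)
    (h : Function.Bijective (fun m : K.homology q => f • m)) :
    Function.Bijective (HomologicalComplex.homologyMap
      (DerCA.locCxUnit (Submonoid.powers f) K) q).hom := by
  constructor
  · rw [injective_iff_map_eq_zero]
    intro x hx
    obtain ⟨s, ⟨n, rfl⟩, hs⟩ := (homologyMap_locCxUnit_eq_zero_iff (Submonoid.powers f) K q _).1 hx
    change f ^ n • x = 0 at hs
    induction n with
    | zero => simpa using hs
    | succ n ih =>
      apply ih
      apply h.1
      change f • f ^ n • x = f • (0 : K.homology q)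
      rw [smul_zero, smul_smul, ← pow_succ', hs]
  · rw [homologyMap_locCxUnit_surjective_iff]
    intro z
    induction z using LocalizedModule.induction_on with
    | h a s =>
      obtain ⟨s, n, rfl⟩ := s
      have : ∃ b : K.homology q, f ^ n • b = a := by
        induction n generalizing a with
        | zero => exact ⟨a, by simp⟩
        | succ n ih =>
          obtain ⟨c, hc⟩ := h.2 a
          obtain ⟨b, hb⟩ := ih c
          refine ⟨b, ?_⟩
          rw [pow_succ', mul_smul, hb]
          exact hc
      obtain ⟨b, hb⟩ := this
      refine ⟨b, ?_⟩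
      rw [LocalizedModule.mkLinearMap_apply, LocalizedModule.mk_eq]
      exact ⟨1, by simp [Submonoid.smul_def, hb]⟩

theorem isZero_of_smul_bijective (M : ModuleCat.{u} R) (fs : List R) (hf : f ∈ fs)
    (h : Function.Bijective (fun m : M => f • m)) (q : ℤ) :
    IsZero (DerCA.extCechH fs M q) := by
  induction fs generalizing q with
  | nil => simp at hf
  | cons g gs ih =>
    rcases List.mem_cons.1 hf with rfl | hf
    · exact isZero_cocone _ _ (q - 1) q (by lia)
        (homologyMap_locCxUnit_bijective f _ _ (smul_bijective f M gs h (q - 1))).2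
        (homologyMap_locCxUnit_bijective f _ _ (smul_bijective f M gs h q)).1
    · refine isZero_cocone _ _ (q - 1) q (by lia) ?_ ?_
      · have := (isZero_iff_subsingleton _).1
          (isZero_homology_locCx (Submonoid.powers g) _ (q - 1) (ih hf (q - 1)))
        exact fun z => ⟨0, Subsingleton.elim _ _⟩
      · have := (isZero_iff_subsingleton _).1 (ih hf q)
        exact fun z w _ => Subsingleton.elim (α := (DerCA.extCech M gs).homology q) z w

end Bij

theorem mkLinearMap_surjective_of_div (f : R) (N : Type u) [AddCommGroup N] [Module R N]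
    (h : Div f N) : Function.Surjective (LocalizedModule.mkLinearMap (Submonoid.powers f) N) := by
  intro z
  induction z using LocalizedModule.induction_on with
  | h a s =>
    obtain ⟨s, n, rfl⟩ := s
    obtain ⟨y, k, hk⟩ := h a n
    refine ⟨y, ?_⟩
    rw [LocalizedModule.mkLinearMap_apply, LocalizedModule.mk_eq]
    refine ⟨⟨f ^ k, k, rfl⟩, ?_⟩
    rw [smul_sub, sub_eq_zero] at hk
    simp only [Submonoid.smul_def, one_smul]
    exact hk.symm

theorem isZero_pos_of_injective [IsNoetherianRing R] (E : ModuleCat.{u} R)
    (hE : Module.Injective R E) (fs : List R) (q : ℤ) (hq : 1 ≤ q) :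
    IsZero (DerCA.extCechH fs E q) := by
  induction fs generalizing q with
  | nil => exact HomologicalComplex.isZero_single_obj_homology _ _ _ _ (by lia)
  | cons f fs ih =>
    refine isZero_cocone _ _ (q - 1) q (by lia) ?_ ?_
    · by_cases hq1 : q = 1
      · subst hq1
        rw [homologyMap_locCxUnit_surjective_iff]
        apply mkLinearMap_surjective_of_div
        obtain ⟨ι, hι, hr⟩ := exists_H0 E fs
        let e : DerCA.extCechH fs E 0 ≃ₗ[R] gam (Ideal.span {x | x ∈ fs}) E :=
          (LinearEquiv.ofInjective ι hι).trans (LinearEquiv.ofEq _ _ hr)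
        exact (div_of_injective f _ (injective_gam _ E hE)).of_surjective e.symm.toLinearMap
          e.symm.surjective
      · have := (isZero_iff_subsingleton _).1
          (isZero_homology_locCx (Submonoid.powers f) _ (q - 1) (ih (q - 1) (by lia)))
        exact fun z => ⟨0, Subsingleton.elim _ _⟩
    · have := (isZero_iff_subsingleton _).1 (ih q hq)
      exact fun z w _ => Subsingleton.elim (α := (DerCA.extCech E fs).homology q) z w

end K171.Cech
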