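import Mathlib.RingTheory.Ideal.Height
import Mathlib.RingTheory.Ideal.MinimalPrime.Noetherian

set_option autoImplicit false
universe u

namespace K171.AraAvoid

/-- Prime avoidance construction: elements `f_1, …, f_r ∈ I` such that every prime containing all of them but not
containing `I` has height at least `r`. -/
theorem exists_fin {R : Type u} [CommRing R] [IsNoetherianRing R] (I : Ideal R) (r : ℕ) :
    ∃ f : Fin r → R, (∀ i, f i ∈ I) ∧ ∀ (p : Ideal R) [p.IsPrime],
      Ideal.span (Set.range f) ≤ p → ¬ I ≤ p → (r : ℕ∞) ≤ p.height := by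
  induction r with
  | zero => exact ⟨Fin.elim0, fun i => i.elim0, fun p _ _ _ => by simp⟩
  | succ r ih =>
    obtain ⟨f, hf, h⟩ := ih
    set J := Ideal.span (Set.range f) with hJ
    have hfin : (J.minimalPrimes).Finite := Ideal.finite_minimalPrimes_of_isNoetherianRing R J
    have hfin' : {q ∈ J.minimalPrimes | ¬ I ≤ q}.Finite := hfin.subset (Set.sep_subset _ _)
    obtain ⟨a, haI, ha⟩ : ∃ a ∈ I, ∀ q ∈ {q ∈ J.minimalPrimes | ¬ I ≤ q}, a ∉ q := by
      by_contra hcon
      push Not at hcon
      have : (I : Set R) ⊆ ⋃ q ∈ (hfin'.toFinset : Set (Ideal R)), (q : Set R) := by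
        intro x hx
        obtain ⟨q, hq, hxq⟩ := hcon x hx
        simp only [Set.mem_iUnion]
        exact ⟨q, by simpa using hq, hxq⟩
      replace this := (Ideal.subset_union_prime (f := fun q : Ideal R => q) (s := hfin'.toFinset) ⊥ ⊥ ?_).1 this
      · obtain ⟨q, hq, hIq⟩ := this
        rw [Set.Finite.mem_toFinset] at hq
        exact hq.2 hIq
      · intro q hq _ _
        rw [Set.Finite.mem_toFinset] at hq
        exact hq.1.1.1
    refine ⟨Fin.snoc f a, ?_, ?_⟩
    · intro i
      refine Fin.lastCases ?_ ?_ i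
      · simpa using haI
      · intro j; simpa using hf j
    · intro p hp hle hI
      have hJp : J ≤ p := by
        refine le_trans (Ideal.span_mono ?_) hle
        rintro _ ⟨j, rfl⟩
        exact ⟨j.castSucc, by simp⟩
      have hap : a ∈ p := hle (Ideal.subset_span ⟨Fin.last r, by simp⟩)
      obtain ⟨q, hq, hqp⟩ := Ideal.exists_minimalPrimes_le hJp
      have hIq : ¬ I ≤ q := fun h' => hI (h'.trans hqp)
      have haq : a ∉ q := ha q ⟨hq, hIq⟩
      have hqlt : q < p := lt_of_le_of_ne hqp (fun e => haq (e ▸ hap))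
      have := hq.1.1
      have h1 := h q hq.1.2 hIq
      have h2 := Ideal.height_add_one_le_of_lt_of_isPrime hqlt
      push_cast
      exact le_trans (by gcongr) h2

end K171.AraAvoid
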