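import Groth.Agent.QGor.K967.DepthKit
import Groth.Agent.Localalg.DepthLC
import Groth.Agent.Localalg.LCRows
import Groth.Agent.CalgA.SerreLocal
import Groth.Agent.Ega4B.SkLocal

/-!
# Depth of a direct summand of an algebra
-/

set_option autoImplicit false
universe u

open CategoryTheory IsLocalRing

namespace K171.DepthRetract

open Groth.Agent

/-- Local cohomology vanishing passes to retracts. -/
theorem subsingleton_H_of_retract {A : Type u} [CommRing A] (I : Ideal A) (j : ℕ)
    {M N : Type u} [AddCommGroup M] [Module A M] [AddCommGroup N] [Module A N]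
    (i : M →ₗ[A] N) (q : N →ₗ[A] M) (hqi : q ∘ₗ i = LinearMap.id)
    (h : Subsingleton (LocCoh.H I j N)) : Subsingleton (LocCoh.H I j M) := by
  refine subsingleton_of_forall_eq 0 fun x => ?_
  have h1 : ModuleCat.ofHom i ≫ ModuleCat.ofHom q = 𝟙 (ModuleCat.of A M) := by
    rw [← ModuleCat.ofHom_comp, hqi]
    rfl
  have h2 : (localCohomology I j).map (ModuleCat.ofHom i) ≫
      (localCohomology I j).map (ModuleCat.ofHom q) = 𝟙 _ := by
    rw [← Functor.map_comp, h1]
    exact (localCohomology I j).map_id _
  have h3 := congrArg (fun f => f.hom x) h2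
  change ((localCohomology I j).map (ModuleCat.ofHom q)).hom
    (((localCohomology I j).map (ModuleCat.ofHom i)).hom x) = x at h3
  have h4 : ((localCohomology I j).map (ModuleCat.ofHom i)).hom x = 0 := h.elim _ _
  rw [h4, map_zero] at h3
  exact h3.symm

/-- The depth of a direct summand of an algebra. -/
theorem le_depth_of_retract {A B : Type u} [CommRing A] [IsLocalRing A] [IsNoetherianRing A]
    [CommRing B] [IsNoetherianRing B] [Algebra A B] (M : Type u) [AddCommGroup M] [Module A M]
    [Module.Finite A M] (i : M →ₗ[A] B) (q : B →ₗ[A] M) (hqi : q ∘ₗ i = LinearMap.id) (d : ℕ)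
    (hd : ∀ (Q : Ideal B) [Q.IsPrime], (maximalIdeal A).map (algebraMap A B) ≤ Q →
      (d : ℕ∞) ≤ LocCoh.depth (Localization.AtPrime Q) (LocalizedModule Q.primeCompl B)) :
    (d : ℕ∞) ≤ LocCoh.depth A M := by
  have h1 : (d : ℕ∞) ≤ LocCoh.idealDepth ((maximalIdeal A).map (algebraMap A B)) B := by
    rw [K967.DepthKit.natCast_le_idealDepth_iff_forall]
    exact hd
  have h2 : ∀ j < d, Subsingleton (LocCoh.H (maximalIdeal A) j M) := by
    intro j hj
    refine subsingleton_H_of_retract (maximalIdeal A) j i q hqi ?_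
    rw [← Localalg.LCRows.subsingleton_iff_res (B := B)]
    exact Localalg.DepthLC.subsingleton_H_of_lt_idealDepth _ B j
      (lt_of_lt_of_le (by exact_mod_cast hj) h1)
  by_contra hcon
  rw [not_le] at hcon
  obtain ⟨n, hn⟩ := ENat.ne_top_iff_exists.mp hcon.ne_top
  have h3 := Localalg.DepthLC.nontrivial_H_idealDepth (maximalIdeal A) M n hn.symm
  rw [← hn] at hcon
  have h4 := h2 n (by exact_mod_cast hcon)
  exact not_subsingleton _ h4

/-- The depth at `p` of a direct summand of an algebra satisfying `S_r`. -/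
theorem le_depth_localized_of_retract {R G : Type u} [CommRing R] [IsNoetherianRing R]
    [CommRing G] [IsNoetherianRing G] [Algebra R G] (r : ℕ) (hS : LocCoh.HasSk r G G)
    (p : Ideal R) [p.IsPrime] (M : Type u) [AddCommGroup M] [Module R M] [Module.Finite R M]
    (i : M →ₗ[R] G) (q : G →ₗ[R] M) (hqi : q ∘ₗ i = LinearMap.id) (d : ℕ) (hdr : d ≤ r)
    (hd : ∀ (Q : Ideal G) [Q.IsPrime], Q.comap (algebraMap R G) = p → (d : ℕ∞) ≤ Q.height) :
    (d : ℕ∞) ≤ LocCoh.depth (Localization.AtPrime p) (LocalizedModule p.primeCompl M) := by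
  let Rp := Localization.AtPrime p
  let T := Algebra.algebraMapSubmonoid G p.primeCompl
  let B := Localization T
  let jM := LocalizedModule.mkLinearMap p.primeCompl M
  let jG := (IsScalarTower.toAlgHom R G B).toLinearMap
  let i' : LocalizedModule p.primeCompl M →ₗ[Rp] B :=
    IsLocalizedModule.mapExtendScalars p.primeCompl jM jG Rp i
  let q' : B →ₗ[Rp] LocalizedModule p.primeCompl M :=
    IsLocalizedModule.mapExtendScalars p.primeCompl jG jM Rp q
  have hqi' : q' ∘ₗ i' = LinearMap.id := by
    apply LinearMap.restrictScalars_injective R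
    apply IsLocalizedModule.ext p.primeCompl jM (IsLocalizedModule.map_units jM)
    ext x
    change q' (i' (jM x)) = jM x
    have h1 : i' (jM x) = jG (i x) := IsLocalizedModule.map_apply p.primeCompl jM jG i x
    have h2 : q' (jG (i x)) = jM (q (i x)) := IsLocalizedModule.map_apply p.primeCompl jG jM q (i x)
    rw [h1, h2]
    exact congrArg jM (LinearMap.congr_fun hqi x)
  have hSB : LocCoh.HasSk r B B :=
    Groth.Agent.Ega4B.SkLocal.hasSk_of_isLocalizedModule r (R := G) (A := B) T
      (Algebra.linearMap G B) hS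
  have hNB : IsNoetherianRing B := IsLocalization.isNoetherianRing T B inferInstance
  refine le_depth_of_retract (A := Rp) (B := B) (LocalizedModule p.primeCompl M) i' q' hqi' d ?_
  intro Q hQ hmQ
  obtain ⟨e⟩ := CalgA.SerreLocal.nonempty_localizedModule_equiv Q
  rw [CalgA.DepthSmall.depth_congr e]
  refine le_trans ?_ ((CalgA.SerreLocal.hasSk_self_iff r).1 hSB Q)
  refine le_min (by exact_mod_cast hdr) ?_
  have h3 := IsLocalization.height_under T Q
  rw [← h3]
  have h4 : (Q.under G).IsPrime := Ideal.IsPrime.under G Q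
  refine hd (Q.under G) ?_
  have h5 : (Q.under G).comap (algebraMap R G) = (Q.comap (algebraMap Rp B)).comap (algebraMap R Rp) := by
    rw [Ideal.under, Ideal.comap_comap, Ideal.comap_comap, ← IsScalarTower.algebraMap_eq,
      ← IsScalarTower.algebraMap_eq]
  rw [h5]
  have h6 : Q.comap (algebraMap Rp B) = maximalIdeal Rp := by
    have : (Q.comap (algebraMap Rp B)).IsPrime := Ideal.IsPrime.comap _
    exact le_antisymm (IsLocalRing.le_maximalIdeal this.ne_top) (Ideal.map_le_iff_le_comap.1 hmQ)
  rw [h6]
  exact IsLocalization.AtPrime.under_maximalIdeal Rp p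

end K171.DepthRetract
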