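import Mathlib.RingTheory.KrullDimension.NonZeroDivisors
import Mathlib.RingTheory.Ideal.KrullsHeightTheorem
import Mathlib.RingTheory.KrullDimension.LocalRing

set_option autoImplicit false
universe u

open IsLocalRing

namespace K171.DimOne

theorem ringKrullDim_quotient_add_one_le_of_lt {R : Type u} [CommRing R] {p q : Ideal R}
    [hp : p.IsPrime] [q.IsPrime] (h : p < q) :
    ringKrullDim (R ⧸ q) + 1 ≤ ringKrullDim (R ⧸ p) := by
  obtain ⟨x, hxq, hxp⟩ := SetLike.exists_of_lt h
  have h1 : Ideal.Quotient.mk p x ∈ nonZeroDivisors (R ⧸ p) :=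
    mem_nonZeroDivisors_of_ne_zero (by rwa [Ne, Ideal.Quotient.eq_zero_iff_mem])
  refine le_trans ?_ (ringKrullDim_quotient_succ_le_of_nonZeroDivisor h1)
  gcongr
  let f : (R ⧸ p) ⧸ Ideal.span {Ideal.Quotient.mk p x} →+* R ⧸ q :=
    Ideal.Quotient.lift _ (Ideal.Quotient.factor h.le) (by
      intro a ha
      have : Ideal.span {Ideal.Quotient.mk p x} ≤ RingHom.ker (Ideal.Quotient.factor h.le) := by
        rw [Ideal.span_le, Set.singleton_subset_iff, SetLike.mem_coe, RingHom.mem_ker]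
        simpa using Ideal.Quotient.eq_zero_iff_mem.mpr hxq
      exact this ha)
  refine ringKrullDim_le_of_surjective f ?_
  intro y
  obtain ⟨y, rfl⟩ := Ideal.Quotient.mk_surjective y
  exact ⟨Ideal.Quotient.mk _ (Ideal.Quotient.mk _ y), rfl⟩

/-- In a Noetherian local ring every non-maximal prime is contained in a prime `P` with `dim R/P = 1`. -/
theorem exists_prime_dim_one {R : Type u} [CommRing R] [IsLocalRing R] [IsNoetherianRing R]
    (p : Ideal R) [hp : p.IsPrime] (hpm : p ≠ maximalIdeal R) :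
    ∃ (P : Ideal R) (_ : P.IsPrime), p ≤ P ∧ P ≠ maximalIdeal R ∧ ringKrullDim (R ⧸ P) = 1 := by
  let s : Set (Ideal R) := {P | P.IsPrime ∧ p ≤ P ∧ P ≠ maximalIdeal R}
  obtain ⟨P, ⟨hP, hpP, hPm⟩, hmax⟩ := set_has_maximal_iff_noetherian.mpr
    (inferInstanceAs (IsNoetherian R R)) s ⟨p, hp, le_rfl, hpm⟩
  refine ⟨P, hP, hpP, hPm, ?_⟩
  have hlt : P < maximalIdeal R :=
    lt_of_le_of_ne (IsLocalRing.le_maximalIdeal hP.ne_top) hPm
  have hnt : Nontrivial (R ⧸ maximalIdeal R) :=
    Ideal.Quotient.nontrivial_iff.mpr Ideal.IsPrime.ne_top'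
  have h1 : ringKrullDim (R ⧸ maximalIdeal R) + 1 ≤ ringKrullDim (R ⧸ P) :=
    ringKrullDim_quotient_add_one_le_of_lt hlt
  apply le_antisymm
  · have : Ring.KrullDimLE 1 (R ⧸ P) := by
      rw [Ring.krullDimLE_one_iff_of_isPrime_bot]
      intro Q hQ0 hQ
      have h2 : P ≤ Q.comap (Ideal.Quotient.mk P) := by
        intro x hx
        rw [Ideal.mem_comap, Ideal.Quotient.eq_zero_iff_mem.mpr hx]
        exact Q.zero_mem
      have h3 : Q.comap (Ideal.Quotient.mk P) ≠ P := by
        intro h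
        apply hQ0
        rw [eq_bot_iff]
        intro x hx
        obtain ⟨y, rfl⟩ := Ideal.Quotient.mk_surjective x
        have : y ∈ Q.comap (Ideal.Quotient.mk P) := hx
        rw [h] at this
        exact Ideal.Quotient.eq_zero_iff_mem.mpr this
      have h4 : Q.comap (Ideal.Quotient.mk P) = maximalIdeal R := by
        by_contra h
        exact hmax _ ⟨Ideal.comap_isPrime _ _, hpP.trans h2, h⟩ (lt_of_le_of_ne h2 (Ne.symm h3))
      have h5 : (Q.comap (Ideal.Quotient.mk P)).IsMaximal := h4 ▸ inferInstance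
      have := Ideal.map_eq_top_or_isMaximal_of_surjective (Ideal.Quotient.mk P)
        Ideal.Quotient.mk_surjective h5
      rw [Ideal.map_comap_of_surjective _ Ideal.Quotient.mk_surjective] at this
      exact this.resolve_left hQ.ne_top
    exact_mod_cast Ring.krullDimLE_iff.mp this
  · refine le_trans ?_ h1
    have : (0 : WithBot ℕ∞) ≤ ringKrullDim (R ⧸ maximalIdeal R) :=
      ringKrullDim_nonneg_of_nontrivial
    calc (1 : WithBot ℕ∞) = 0 + 1 := by simp
      _ ≤ _ := by gcongr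

/-- In a Noetherian local ring, an ideal with positive dimensional quotient is contained in a prime with
one-dimensional quotient. -/
theorem exists_prime {R : Type u} [CommRing R] [IsNoetherianRing R] [IsLocalRing R] (I : Ideal R)
    (hI : 0 < ringKrullDim (R ⧸ I)) :
    ∃ p : Ideal R, p.IsPrime ∧ I ≤ p ∧ ringKrullDim (R ⧸ p) = 1 := by
  obtain ⟨p, hp, hIp, hpm⟩ : ∃ p : Ideal R, p.IsPrime ∧ I ≤ p ∧ p ≠ maximalIdeal R := by
    by_contra hcon
    push Not at hcon
    rw [ringKrullDim_quotient] at hI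
    refine absurd hI (not_lt.2 ?_)
    refine Order.krullDim_nonpos_iff_forall_isMax.2 ?_
    rintro ⟨x, hx⟩ ⟨y, hy⟩ hxy
    have h1 := hcon x.asIdeal x.2 hx
    have h2 := hcon y.asIdeal y.2 hy
    change y ≤ x
    exact (PrimeSpectrum.ext (h2.trans h1.symm)).le
  obtain ⟨P, hP, hpP, -, hdim⟩ := exists_prime_dim_one p hpm
  exact ⟨P, hP, hIp.trans hpP, hdim⟩

end K171.DimOne
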