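import Groth.Agent.Localalg.LCIface2
import Groth.Agent.LoccohA.LCLinear
import Mathlib.LinearAlgebra.TensorProduct.RightExactness
import Mathlib.LinearAlgebra.DirectSum.Finsupp

/-!
# Top local cohomology as a tensor product

If `H^j_I` vanishes for `j > d` then `H^d_I(R) ⊗ M ≃ H^d_I(M)` for every module `M`.
-/

set_option autoImplicit false
universe u

open CategoryTheory TensorProduct

namespace K171.Watts

open Groth.Agent.Dix.TopLC Groth.Agent.Localalg.CdRing Groth.Agent.LoccohA

variable {R : Type u} [CommRing R] (I : Ideal R) (d : ℕ)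

section Basic

variable {M N P : Type u} [AddCommGroup M] [Module R M] [AddCommGroup N] [Module R N]
  [AddCommGroup P] [Module R P]

theorem hmap_add (f g : M →ₗ[R] N) : hmap I d (f + g) = hmap I d f + hmap I d g := by
  ext x
  have h := LCLinear.localCohomology_map_add I d (ModuleCat.ofHom f) (ModuleCat.ofHom g)
  exact congrArg (fun t => t.hom x) h

theorem hmap_smul (r : R) (f : M →ₗ[R] N) : hmap I d (r • f) = r • hmap I d f := by
  ext x
  have h := LCLinear.localCohomology_map_smul I d r (ModuleCat.ofHom f)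
  exact congrArg (fun t => t.hom x) h

theorem hmap_comp (f : M →ₗ[R] N) (g : N →ₗ[R] P) : hmap I d (g ∘ₗ f) = hmap I d g ∘ₗ hmap I d f := by
  ext x
  exact LES.hmap_comp I d f g x

theorem hmap_id : hmap I d (LinearMap.id : M →ₗ[R] M) = LinearMap.id := by
  ext x
  exact LES.hmap_id I d x

theorem hmap_zero : hmap I d (0 : M →ₗ[R] N) = 0 := by
  ext x
  exact LES.hmap_zero I d x

theorem hmap_sum {ι : Type*} (s : Finset ι) (f : ι → (M →ₗ[R] N)) :
    hmap I d (∑ i ∈ s, f i) = ∑ i ∈ s, hmap I d (f i) := by
  classical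
  induction s using Finset.induction_on with
  | empty => simp [hmap_zero]
  | insert a s ha ih => rw [Finset.sum_insert ha, Finset.sum_insert ha, hmap_add, ih]

variable (M) in
/-- The natural map `H^d_I(R) ⊗ M → H^d_I(M)`. -/
noncomputable def T : LocCoh.H I d R ⊗[R] M →ₗ[R] LocCoh.H I d M :=
  TensorProduct.lift (LinearMap.flip
    { toFun := fun m => hmap I d (LinearMap.toSpanSingleton R M m)
      map_add' := fun m m' => by
        rw [← hmap_add]
        congr 1
        ext
        simp
      map_smul' := fun r m => by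
        rw [RingHom.id_apply, ← hmap_smul]
        congr 1
        ext
        simp })

theorem T_tmul (x : LocCoh.H I d R) (m : M) :
    T I d M (x ⊗ₜ m) = hmap I d (LinearMap.toSpanSingleton R M m) x := rfl

theorem T_natural (f : M →ₗ[R] N) :
    T I d N ∘ₗ LinearMap.lTensor (LocCoh.H I d R) f = hmap I d f ∘ₗ T I d M := by
  ext x m
  simp only [AlgebraTensorModule.curry_apply, curry_apply, LinearMap.coe_restrictScalars,
    LinearMap.coe_comp, Function.comp_apply, LinearMap.lTensor_tmul, T_tmul]
  rw [← LinearMap.comp_apply, ← hmap_comp]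
  congr 2
  ext
  simp

end Basic

section Free

variable (ι : Type u)

theorem toSpan_single (i : ι) :
    LinearMap.toSpanSingleton R (ι →₀ R) (Finsupp.single i 1) = Finsupp.lsingle i := by
  ext
  simp

theorem T_free_injective : Function.Injective (T I d (ι →₀ R)) := by
  classical
  rw [injective_iff_map_eq_zero]
  intro z hz
  let e := TensorProduct.finsuppScalarRight R R (LocCoh.H I d R) ι
  have key : ∀ i : ι, ∀ w : LocCoh.H I d R ⊗[R] (ι →₀ R),
      e w i = hmap I d (Finsupp.lapply i) (T I d (ι →₀ R) w) := by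
    intro i w
    induction w using TensorProduct.induction_on with
    | zero => simp
    | add x y hx hy => simp only [map_add, Finsupp.add_apply, hx, hy]
    | tmul x p =>
      rw [T_tmul, ← LinearMap.comp_apply, ← hmap_comp]
      have : (Finsupp.lapply i : (ι →₀ R) →ₗ[R] R) ∘ₗ LinearMap.toSpanSingleton R (ι →₀ R) p =
          LinearMap.lsmul R R (p i) := by
        ext
        simp
      rw [this]
      have h2 : LinearMap.lsmul R R (p i) = (p i) • (LinearMap.id : R →ₗ[R] R) := by
        ext; simp
      rw [h2, hmap_smul, hmap_id]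
      simp [e]
  apply e.injective
  rw [map_zero]
  ext i
  rw [key i z, hz, map_zero]
  rfl

variable [IsNoetherianRing R]

theorem T_free_surjective : Function.Surjective (T I d (ι →₀ R)) := by
  classical
  intro x
  obtain ⟨M', hM', x', rfl⟩ := (Groth.Agent.Localalg.LCIface2.iface2 I).fg (ι →₀ R) d x
  obtain ⟨s, hs⟩ := hM'
  let t : Finset ι := s.biUnion fun p => p.support
  let p : (ι →₀ R) →ₗ[R] (ι →₀ R) := ∑ i ∈ t, (Finsupp.lsingle i) ∘ₗ (Finsupp.lapply i)
  have hp : p ∘ₗ M'.subtype = M'.subtype := by
    have h1 : ∀ y ∈ M', p y = y := by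
      intro y hy
      rw [← hs] at hy
      induction hy using Submodule.span_induction with
      | mem y hy =>
        simp only [p, LinearMap.sum_apply, LinearMap.comp_apply, Finsupp.lapply_apply,
          Finsupp.lsingle_apply]
        have hsub : y.support ⊆ t := Finset.subset_biUnion_of_mem (fun p : ι →₀ R => p.support) hy
        conv_rhs => rw [← Finsupp.sum_single y]
        rw [Finsupp.sum]
        refine (Finset.sum_subset hsub fun i _ hi => ?_).symm
        rw [Finsupp.notMem_support_iff.1 hi, Finsupp.single_zero]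
      | zero => exact map_zero _
      | add a b _ _ ha hb => rw [map_add, ha, hb]
      | smul a b _ hb => rw [map_smul, hb]
    ext y : 1
    exact h1 y y.2
  refine ⟨∑ i ∈ t, (hmap I d (Finsupp.lapply i) (hmap I d M'.subtype x')) ⊗ₜ (Finsupp.single i 1), ?_⟩
  rw [map_sum]
  have h2 : ∀ i ∈ t, T I d (ι →₀ R) ((hmap I d (Finsupp.lapply i) (hmap I d M'.subtype x')) ⊗ₜ
      (Finsupp.single i 1)) =
      (hmap I d (Finsupp.lsingle i ∘ₗ Finsupp.lapply i : (ι →₀ R) →ₗ[R] (ι →₀ R)))
        (hmap I d M'.subtype x') := by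
    intro i _
    rw [T_tmul, toSpan_single, hmap_comp]
    rfl
  rw [Finset.sum_congr rfl h2, ← LinearMap.sum_apply, ← hmap_sum]
  change hmap I d p (hmap I d M'.subtype x') = _
  rw [← LinearMap.comp_apply, ← hmap_comp, hp]

end Free

section Main

variable [IsNoetherianRing R] {M N P : Type u} [AddCommGroup M] [Module R M] [AddCommGroup N]
  [Module R N] [AddCommGroup P] [Module R P]

theorem hmap_surjective (h : ∀ (M : Type u) [AddCommGroup M] [Module R M],
      Subsingleton (LocCoh.H I (d + 1) M)) (g : M →ₗ[R] N)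
    (hg : Function.Surjective g) : Function.Surjective (hmap I d g) := by
  obtain ⟨δ, hδ⟩ := (Groth.Agent.Localalg.LCIface2.iface2 I).del2 (LinearMap.ker g) M N
    (LinearMap.ker g).subtype g
    (Submodule.injective_subtype _) hg (LinearMap.exact_subtype_ker_map g) d
  have h1 : Subsingleton (LocCoh.H I (d + 1) (LinearMap.ker g)) := h _
  intro z
  exact (hδ z).mp (Subsingleton.elim _ _)

/-- `H^d_I` is right exact if `H^{d+1}_I` vanishes. -/
theorem hmap_exact (h : ∀ (M : Type u) [AddCommGroup M] [Module R M],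
      Subsingleton (LocCoh.H I (d + 1) M)) (f : M →ₗ[R] N) (g : N →ₗ[R] P)
    (hg : Function.Surjective g) (hfg : Function.Exact f g) :
    Function.Exact (hmap I d f) (hmap I d g) := by
  have hex := (Groth.Agent.Localalg.LCIface2.iface I).ex (LinearMap.ker g) N P
    (LinearMap.ker g).subtype g
    (Submodule.injective_subtype _) hg (LinearMap.exact_subtype_ker_map g) d
  let f' : M →ₗ[R] LinearMap.ker g := f.codRestrict _ fun x => hfg.apply_apply_eq_zero x
  have hf' : Function.Surjective f' := by
    rintro ⟨y, hy⟩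
    obtain ⟨x, rfl⟩ := (hfg y).1 hy
    exact ⟨x, rfl⟩
  have hs := hmap_surjective I d h f' hf'
  intro y
  constructor
  · intro hy
    obtain ⟨z, rfl⟩ := (hex y).1 hy
    obtain ⟨x, rfl⟩ := hs z
    refine ⟨x, ?_⟩
    rw [← LinearMap.comp_apply, ← hmap_comp]
    rfl
  · rintro ⟨x, rfl⟩
    rw [← LinearMap.comp_apply, ← hmap_comp]
    have : g ∘ₗ f = 0 := by
      ext x
      exact hfg.apply_apply_eq_zero x
    rw [this, hmap_zero]
    rfl

/-- The comparison map is bijective for every module if `H^{d+1}_I` vanishes. -/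
theorem T_bijective (h : ∀ (M : Type u) [AddCommGroup M] [Module R M],
      Subsingleton (LocCoh.H I (d + 1) M)) (M : Type u) [AddCommGroup M] [Module R M] :
    Function.Bijective (T I d M) := by
  let g : (M →₀ R) →ₗ[R] M := Finsupp.linearCombination R id
  have hg : Function.Surjective g := fun m => ⟨Finsupp.single m 1, by simp [g]⟩
  let g' : (LinearMap.ker g →₀ R) →ₗ[R] LinearMap.ker g := Finsupp.linearCombination R id
  have hg' : Function.Surjective g' := fun m => ⟨Finsupp.single m 1, by simp [g']⟩
  let f : (LinearMap.ker g →₀ R) →ₗ[R] (M →₀ R) := (LinearMap.ker g).subtype ∘ₗ g'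
  have hfg : Function.Exact f g := by
    intro y
    constructor
    · intro hy
      obtain ⟨z, hz⟩ := hg' ⟨y, hy⟩
      exact ⟨z, by simp [f, hz]⟩
    · rintro ⟨z, rfl⟩
      exact (g' z).2
  have e1 := hmap_exact I d h f g hg hfg
  have e2 := hmap_surjective I d h g hg
  have e3 := lTensor_exact (LocCoh.H I d R) hfg hg
  have e4 := LinearMap.lTensor_surjective (LocCoh.H I d R) hg
  have b1 : Function.Bijective (T I d (M →₀ R)) := ⟨T_free_injective I d M, T_free_surjective I d M⟩
  have b2 : Function.Bijective (T I d (LinearMap.ker g →₀ R)) :=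
    ⟨T_free_injective I d _, T_free_surjective I d _⟩
  have n1 := fun x => congrArg (fun t => t x) (T_natural I d f)
  have n2 := fun x => congrArg (fun t => t x) (T_natural I d g)
  simp only [LinearMap.coe_comp, Function.comp_apply] at n1 n2
  constructor
  · rw [injective_iff_map_eq_zero]
    intro z hz
    obtain ⟨w, rfl⟩ := e4 z
    rw [n2] at hz
    obtain ⟨y, hy⟩ := (e1 _).1 hz
    obtain ⟨v, rfl⟩ := b2.2 y
    rw [← n1] at hy
    have := b1.1 hy
    rw [← this]
    exact e3.apply_apply_eq_zero v
  · intro y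
    obtain ⟨z, rfl⟩ := e2 y
    obtain ⟨w, rfl⟩ := b1.2 z
    exact ⟨_, n2 w⟩

/-- `H^d_I(R) ⊗ M ≃ H^d_I(M)`. -/
noncomputable def equiv (h : ∀ (M : Type u) [AddCommGroup M] [Module R M],
      Subsingleton (LocCoh.H I (d + 1) M)) (M : Type u) [AddCommGroup M] [Module R M] :
    LocCoh.H I d R ⊗[R] M ≃ₗ[R] LocCoh.H I d M :=
  LinearEquiv.ofBijective (T I d M) (T_bijective I d h M)

end Main

end K171.Watts
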