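import Groth.Agent.Localalg.LCSeq
import Groth.Agent.Localalg.LCIface2
import Groth.Agent.Localalg.HLVT
import Groth.Agent.LocCoh.K171.Watts

/-!
# Top local cohomology of a finite module

Comparison maps between local cohomology with different supports: `H^n_J(M) → H^n_I(M)` surjective
for `n = dim M`, `I ≤ J ≤ m`; bijective in all degrees if `J = I + (elements killing M)`; the
reduction of `H^n_I(M)` modulo an ideal.
-/

set_option autoImplicit false
universe u

open CategoryTheory

namespace K171.TopLC

open Groth.Agent.Dix.TopLC Groth.Agent.Localalg Groth.Agent.LoccohA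

variable {R : Type u} [CommRing R]

/-- the interface -/
theorem iface [IsNoetherianRing R] (I : Ideal R) : Interface I := (LCIface2.iface2 I).toInterface

theorem smul_eq_zero_of_kill [IsNoetherianRing R] (I : Ideal R) (i : ℕ) {M : Type u} [AddCommGroup M]
    [Module R M] {a : R} (h : ∀ m : M, a • m = 0) (x : LocCoh.H I i M) : a • x = 0 := by
  rw [← (iface I).lin]
  have h1 : LinearMap.lsmul R M a = 0 := by
    ext m
    exact h m
  rw [h1]
  exact LES.hmap_zero I i x

theorem subsingleton_loc_of_torsion {M : Type u} [AddCommGroup M] [Module R M] (f : R)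
    (h : ∀ m : M, ∃ k : ℕ, f ^ k • m = 0) : Subsingleton (LocalizedModule (Submonoid.powers f) M) := by
  refine ⟨fun x y => ?_⟩
  have key : ∀ x : LocalizedModule (Submonoid.powers f) M, x = 0 := by
    intro x
    induction x using LocalizedModule.induction_on with
    | h m s =>
      obtain ⟨k, hk⟩ := h m
      rw [← LocalizedModule.zero_mk s, LocalizedModule.mk_eq]
      refine ⟨⟨f ^ k, k, rfl⟩, ?_⟩
      simp only [smul_zero]
      rw [smul_comm]
      change s • (f ^ k • m) = 0
      rw [hk, smul_zero]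
  rw [key x, key y]

theorem surjective_step (I : Ideal R) (f : R) [IsNoetherianRing R] (n : ℕ) (M : Type u)
    [AddCommGroup M] [Module R M] (h : ∀ x : LocCoh.H I n M, ∃ k : ℕ, f ^ k • x = 0) :
    ∃ g : LocCoh.H (I ⊔ Ideal.span {f}) n M →ₗ[R] LocCoh.H I n M, Function.Surjective g := by
  obtain ⟨a, d, -, hex⟩ := LCSeq.exists_exact (I := I) (f := f) M
  have := subsingleton_loc_of_torsion f h
  exact ⟨a n, fun x => ((hex n).1 x).1 (Subsingleton.elim _ _)⟩

theorem equiv_step (I : Ideal R) (f : R) [IsNoetherianRing R] (n : ℕ) (M : Type u)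
    [AddCommGroup M] [Module R M] (h : ∀ m : M, f • m = 0) :
    Nonempty (LocCoh.H (I ⊔ Ideal.span {f}) n M ≃ₗ[R] LocCoh.H I n M) := by
  obtain ⟨a, d, h0, hex⟩ := LCSeq.exists_exact (I := I) (f := f) M
  have hs : ∀ n, Subsingleton (LocalizedModule (Submonoid.powers f) (LocCoh.H I n M)) := fun n =>
    subsingleton_loc_of_torsion f fun x => ⟨1, by
      rw [pow_one]
      exact smul_eq_zero_of_kill I n h x⟩
  refine ⟨LinearEquiv.ofBijective (a n) ⟨?_, fun x => ((hex n).1 x).1 ((hs n).elim _ _)⟩⟩
  cases n with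
  | zero => exact h0
  | succ n =>
    rw [injective_iff_map_eq_zero]
    intro x hx
    obtain ⟨y, rfl⟩ := ((hex n).2.2 x).1 hx
    rw [(hs n).elim y 0, map_zero]

theorem exists_equiv_aux [IsNoetherianRing R] (n : ℕ) (M : Type u) [AddCommGroup M] [Module R M]
    (I : Ideal R) (s : Finset R) (hs : ∀ f ∈ s, ∀ m : M, f • m = 0) :
    Nonempty (LocCoh.H (I ⊔ Ideal.span (s : Set R)) n M ≃ₗ[R] LocCoh.H I n M) := by
  classical
  induction s using Finset.induction_on with
  | empty =>
    rw [Finset.coe_empty, Ideal.span_empty, sup_bot_eq]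
    exact ⟨LinearEquiv.refl _ _⟩
  | insert a s ha ih =>
    obtain ⟨e⟩ := ih fun f hf => hs f (Finset.mem_insert_of_mem hf)
    obtain ⟨e'⟩ := equiv_step (I ⊔ Ideal.span (s : Set R)) a n M (hs a (Finset.mem_insert_self _ _))
    have h1 : I ⊔ Ideal.span ((insert a s : Finset R) : Set R) =
        (I ⊔ Ideal.span (s : Set R)) ⊔ Ideal.span {a} := by
      rw [Finset.coe_insert, Ideal.span_insert, sup_assoc, sup_comm (Ideal.span {a})]
    rw [h1]
    exact ⟨e'.trans e⟩

/-- Local cohomology of `M` only depends on `I` modulo the annihilator of `M`. -/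
theorem exists_equiv [IsNoetherianRing R] (n : ℕ) (M : Type u) [AddCommGroup M] [Module R M]
    (I J : Ideal R) (h : ∀ p : Ideal R, p.IsPrime → Module.annihilator R M ≤ p → (I ≤ p ↔ J ≤ p)) :
    Nonempty (LocCoh.H I n M ≃ₗ[R] LocCoh.H J n M) := by
  obtain ⟨s, hs⟩ : (Module.annihilator R M).FG := IsNoetherian.noetherian _
  have hs' : ∀ f ∈ s, ∀ m : M, f • m = 0 := fun f hf m =>
    Module.mem_annihilator.1 (hs ▸ Ideal.subset_span (Finset.mem_coe.2 hf)) m
  obtain ⟨e⟩ := exists_equiv_aux n M I s hs'
  obtain ⟨e'⟩ := exists_equiv_aux n M J s hs'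
  have hspan : Ideal.span (s : Set R) = Module.annihilator R M := hs
  have h1 : (I ⊔ Ideal.span (s : Set R)).radical = (J ⊔ Ideal.span (s : Set R)).radical := by
    rw [hspan]
    refine le_antisymm ?_ ?_
    · rw [Ideal.radical_le_radical_iff, Ideal.radical_eq_sInf]
      refine le_sInf fun p hp => ?_
      have h2 := le_sup_right.trans hp.1
      exact sup_le ((h p hp.2 h2).2 (le_sup_left.trans hp.1)) h2
    · rw [Ideal.radical_le_radical_iff, Ideal.radical_eq_sInf]
      refine le_sInf fun p hp => ?_
      have h2 := le_sup_right.trans hp.1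
      exact sup_le ((h p hp.2 h2).1 (le_sup_left.trans hp.1)) h2
  have e'' := ((localCohomology.isoOfSameRadical h1 n).app (ModuleCat.of R M)).toLinearEquiv
  exact ⟨(e.symm.trans e'').trans e'⟩

section Local

variable [IsNoetherianRing R] [IsLocalRing R]

theorem torsion_of_dim_le (I : Ideal R) (n : ℕ) (M : Type u) [AddCommGroup M] [Module R M]
    [Module.Finite R M] (hM : Module.supportDim R M ≤ n) {f : R} (hf : f ∈ IsLocalRing.maximalIdeal R)
    (x : LocCoh.H I n M) : ∃ k : ℕ, f ^ k • x = 0 := by
  have hA : IsArtinian R (LocCoh.H I n M) := isArtinian_of_supportDim_le I (iface I) n M hM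
  obtain ⟨k, hk⟩ := IsArtinian.monotone_stabilizes
    (⟨fun k => Submodule.span R {f ^ k • x}, fun a b hab => by
      change Submodule.span R {f ^ b • x} ≤ Submodule.span R {f ^ a • x}
      rw [Submodule.span_singleton_le_iff_mem, Submodule.mem_span_singleton]
      exact ⟨f ^ (b - a), by rw [smul_smul, ← pow_add, Nat.sub_add_cancel hab]⟩⟩ :
        ℕ →o (Submodule R (LocCoh.H I n M))ᵒᵈ)
  have h1 : f ^ k • x ∈ Submodule.span R {f ^ (k + 1) • x} := by
    have h2 : Submodule.span R {f ^ k • x} = Submodule.span R {f ^ (k + 1) • x} := hk (k + 1) (Nat.le_succ k)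
    rw [← h2]
    exact Submodule.mem_span_singleton_self _
  obtain ⟨r, hr⟩ := Submodule.mem_span_singleton.1 h1
  refine ⟨k, ?_⟩
  have h3 : (1 - r * f) • (f ^ k • x) = 0 := by
    have h4 : (r * f) • (f ^ k • x) = f ^ k • x := by
      rw [mul_smul, smul_smul f, ← pow_succ', hr]
    rw [sub_smul, one_smul, h4, sub_self]
  have hu : IsUnit (1 - r * f) := by
    by_contra hcon
    have h4 : 1 - r * f ∈ IsLocalRing.maximalIdeal R := hcon
    have h5 := Ideal.add_mem _ h4 (Ideal.mul_mem_left _ r hf)
    rw [sub_add_cancel] at h5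
    exact (IsLocalRing.maximalIdeal.isMaximal R).ne_top ((Ideal.eq_top_iff_one _).2 h5)
  exact (hu.smul_eq_zero).1 h3

theorem exists_surjective_aux (n : ℕ) (M : Type u) [AddCommGroup M] [Module R M] [Module.Finite R M]
    (hM : Module.supportDim R M ≤ n) (I : Ideal R) (s : Finset R)
    (hs : ∀ f ∈ s, f ∈ IsLocalRing.maximalIdeal R) :
    ∃ g : LocCoh.H (I ⊔ Ideal.span (s : Set R)) n M →ₗ[R] LocCoh.H I n M, Function.Surjective g := by
  classical
  induction s using Finset.induction_on with
  | empty =>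
    rw [Finset.coe_empty, Ideal.span_empty, sup_bot_eq]
    exact ⟨LinearMap.id, fun x => ⟨x, rfl⟩⟩
  | insert a s ha ih =>
    obtain ⟨e, he⟩ := ih fun f hf => hs f (Finset.mem_insert_of_mem hf)
    obtain ⟨e', he'⟩ := surjective_step (I ⊔ Ideal.span (s : Set R)) a n M
      (torsion_of_dim_le _ n M hM (hs a (Finset.mem_insert_self _ _)))
    have h1 : I ⊔ Ideal.span ((insert a s : Finset R) : Set R) =
        (I ⊔ Ideal.span (s : Set R)) ⊔ Ideal.span {a} := by
      rw [Finset.coe_insert, Ideal.span_insert, sup_assoc, sup_comm (Ideal.span {a})]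
    rw [h1]
    exact ⟨e ∘ₗ e', he.comp he'⟩

/-- `H^n_m(M) → H^n_I(M)` is surjective for `n ≥ dim M`. -/
theorem exists_surjective (n : ℕ) (M : Type u) [AddCommGroup M] [Module R M] [Module.Finite R M]
    (hM : Module.supportDim R M ≤ n) (I J : Ideal R) (hIJ : I ≤ J) (hJ : J ≤ IsLocalRing.maximalIdeal R) :
    ∃ g : LocCoh.H J n M →ₗ[R] LocCoh.H I n M, Function.Surjective g := by
  obtain ⟨s, hs⟩ : J.FG := IsNoetherian.noetherian _
  have hspan : Ideal.span (s : Set R) = J := hs
  have h := exists_surjective_aux n M hM I s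
    (fun f hf => hJ (hs ▸ Ideal.subset_span (Finset.mem_coe.2 hf)))
  rwa [hspan, sup_eq_right.2 hIJ] at h

end Local

section Exact

open K171.Watts

variable [IsNoetherianRing R] (I : Ideal R) (n : ℕ) {M N : Type u} [AddCommGroup M] [Module R M]
  [Module.Finite R M] [AddCommGroup N] [Module R N]

omit [IsNoetherianRing R] in
theorem lt_succ_of_le {x : WithBot ℕ∞} (h : x ≤ n) : x < ((n + 1 : ℕ) : WithBot ℕ∞) :=
  h.trans_lt (by exact_mod_cast Nat.lt_succ_self n)

/-- `H^n_I` preserves surjections from a finite module of dimension `≤ n`. -/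
theorem surjective_of_dim_le (hM : Module.supportDim R M ≤ n) (g : M →ₗ[R] N)
    (hg : Function.Surjective g) : Function.Surjective (hmap I n g) := by
  obtain ⟨δ, hδ⟩ := (Groth.Agent.Localalg.LCIface2.iface2 I).del2 (LinearMap.ker g) M N
    (LinearMap.ker g).subtype g
    (Submodule.injective_subtype _) hg (LinearMap.exact_subtype_ker_map g) n
  have h1 : Subsingleton (LocCoh.H I (n + 1) (LinearMap.ker g)) :=
    VanDim.subsingleton_of_supportDim_lt (iface I) (n + 1) _ _ le_rfl (lt_succ_of_le n
      ((Module.supportDim_le_of_injective _ (Submodule.injective_subtype _)).trans hM))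
  intro z
  exact (hδ z).mp (Subsingleton.elim _ _)

omit [Module.Finite R M] in
theorem supportDim_pi_le [Module.Finite R M] (k : ℕ) :
    Module.supportDim R (Fin k → M) ≤ Module.supportDim R M := by
  rw [Module.supportDim_eq_ringKrullDim_quotient_annihilator,
    Module.supportDim_eq_ringKrullDim_quotient_annihilator]
  have h : Module.annihilator R M ≤ Module.annihilator R (Fin k → M) := by
    intro a ha
    rw [Module.mem_annihilator] at *
    intro m
    ext i
    exact ha (m i)
  exact ringKrullDim_le_of_surjective (Ideal.Quotient.factor h) (Ideal.Quotient.factor_surjective h)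

/-- The kernel of `H^n_I(M) → H^n_I(M / pM)` is `p H^n_I(M)`. -/
theorem mem_smul_of_hmap_eq_zero (hM : Module.supportDim R M ≤ n) (p : Ideal R)
    (y : LocCoh.H I n M) (hy : hmap I n (p • (⊤ : Submodule R M)).mkQ y = 0) :
    y ∈ p • (⊤ : Submodule R (LocCoh.H I n M)) := by
  have hex := (iface I).ex _ _ _ (p • (⊤ : Submodule R M)).subtype (p • (⊤ : Submodule R M)).mkQ
    (Submodule.injective_subtype _) (Submodule.mkQ_surjective _)
    (LinearMap.exact_subtype_mkQ _) n
  obtain ⟨z, rfl⟩ := (hex y).1 hy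
  obtain ⟨k, x, hx⟩ := Submodule.fg_iff_exists_fin_generating_family.1
    (IsNoetherian.noetherian p : p.FG)
  have hxp : ∀ j, x j ∈ p := fun j => hx ▸ Submodule.subset_span ⟨j, rfl⟩
  let f : (Fin k → M) →ₗ[R] M := ∑ j : Fin k, x j • LinearMap.proj j
  have hf : ∀ m, f m ∈ p • (⊤ : Submodule R M) := by
    intro m
    simp only [f, LinearMap.sum_apply, LinearMap.smul_apply, LinearMap.proj_apply]
    exact Submodule.sum_mem _ fun j _ => Submodule.smul_mem_smul (hxp j) trivial
  let f' : (Fin k → M) →ₗ[R] (p • (⊤ : Submodule R M) : Submodule R M) := f.codRestrict _ hf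
  have hf' : Function.Surjective f' := by
    have h1 : (p • (⊤ : Submodule R M) : Submodule R M) ≤ LinearMap.range f := by
      rw [← hx, Submodule.smul_le]
      intro r hr m _
      induction hr using Submodule.span_induction with
      | mem r hr =>
        obtain ⟨j, rfl⟩ := hr
        refine ⟨Pi.single j m, ?_⟩
        simp only [f, LinearMap.sum_apply, LinearMap.smul_apply, LinearMap.proj_apply]
        rw [Finset.sum_eq_single j]
        · simp
        · intro i _ hij
          rw [Pi.single_eq_of_ne hij, smul_zero]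
        · intro h
          exact absurd (Finset.mem_univ _) h
      | zero => rw [zero_smul]; exact zero_mem _
      | add a b _ _ ha hb => rw [add_smul]; exact add_mem ha hb
      | smul a b _ hb => rw [smul_assoc]; exact Submodule.smul_mem _ _ hb
    rintro ⟨w, hw⟩
    obtain ⟨m, rfl⟩ := h1 hw
    exact ⟨m, rfl⟩
  obtain ⟨w, rfl⟩ := surjective_of_dim_le I n ((supportDim_pi_le k).trans hM) f' hf' z
  rw [← LinearMap.comp_apply, ← hmap_comp]
  have h2 : (p • (⊤ : Submodule R M)).subtype ∘ₗ f' = f := rfl
  rw [h2, hmap_sum, LinearMap.sum_apply]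
  refine Submodule.sum_mem _ fun j _ => ?_
  rw [hmap_smul, LinearMap.smul_apply]
  exact Submodule.smul_mem_smul (hxp j) trivial

omit [Module.Finite R M] in
/-- A finite direct sum of modules without `H^n_I`. -/
theorem subsingleton_pi (k : ℕ) (h : Subsingleton (LocCoh.H I n M)) :
    Subsingleton (LocCoh.H I n (Fin k → M)) := by
  refine ⟨fun x y => ?_⟩
  have key : ∀ x : LocCoh.H I n (Fin k → M), x = 0 := by
    intro x
    have h1 : (LinearMap.id : (Fin k → M) →ₗ[R] (Fin k → M)) =
        ∑ j : Fin k, (LinearMap.single R (fun _ => M) j) ∘ₗ (LinearMap.proj j) := by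
      refine LinearMap.ext fun m => ?_
      rw [LinearMap.sum_apply, LinearMap.id_apply]
      ext i
      simp [Finset.sum_apply, Pi.single_apply]
    have h2 : hmap I n (LinearMap.id : (Fin k → M) →ₗ[R] (Fin k → M)) x = x := by
      rw [hmap_id]; rfl
    rw [← h2, h1, hmap_sum, LinearMap.sum_apply]
    refine Finset.sum_eq_zero fun j _ => ?_
    rw [hmap_comp, LinearMap.comp_apply, Subsingleton.elim (hmap I n (LinearMap.proj j) x) 0, map_zero]
  rw [key x, key y]

end Exact

end K171.TopLC
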