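import Groth.Agent.Sga2.FinLenLC
import Groth.Agent.Sga2.LocDual
import Groth.Agent.Localalg.GorExt
import Groth.Agent.Localalg.ExtLift
import Groth.Agent.LoccohB.GorBasic
import Groth.Agent.Localalg.VanDim
import Groth.Agent.LocCoh.K171.TopLC
import Groth.Agent.S0341
import Groth.Agent.FormalA.ConnDim

/-!
# Local duality over a Gorenstein local ring
-/

set_option autoImplicit false
universe u

open CategoryTheory Abelian Limits IsLocalRing Opposite

namespace K171.GorDual

open Groth.Agent Groth.Agent.Sga2 Groth.Agent.Sga2.RegExt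

variable (A : Type u) [CommRing A] [LocCoh.IsGorensteinLocalRing A]

/-- `κ` in its two incarnations. -/
noncomputable def resEquiv : ResidueField A ≃ₗ[A] (A ⧸ maximalIdeal A) := LinearEquiv.refl A _

theorem isGorDim (r : ℕ) (hr : ringKrullDim A = r) : IsGorDim A r := by
  obtain ⟨h1, ⟨e⟩⟩ := Localalg.GorExt.ext_residueField r A hr
  have hvan : ∀ (N : Type u) [AddCommGroup N] [Module A N], IsFiniteLength A N → ∀ j ≠ r,
      Subsingleton (Ext (ModuleCat.of A N) (ModuleCat.of A A) j) := by
    intro N _ _ hN j hj
    induction hN with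
    | of_subsingleton =>
      rename_i N _ _ _
      have hz := ModuleCat.isZero_of_subsingleton (ModuleCat.of A N)
      refine subsingleton_of_forall_eq 0 fun x => ?_
      rw [← Ext.mk₀_id_comp x, hz.eq_of_src (𝟙 _) 0]
      simp
    | of_simple_quotient hP ih =>
      rename_i N _ _ P hs
      have hS := shortExact_of_submodule P
      obtain ⟨e1⟩ := simple_equiv_quot (A := A) (N ⧸ P)
      have h2 : Subsingleton (Ext (ModuleCat.of A (N ⧸ P)) (ModuleCat.of A A) j) := by
        have h3 := h1 j hj
        have e3 := extEquivLeft (ModuleCat.of A A) ((e1.trans (resEquiv A).symm).toModuleIso) j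
        exact e3.toEquiv.subsingleton_congr.1 h3
      refine subsingleton_of_forall_eq 0 fun x => ?_
      obtain ⟨z, hz⟩ := Ext.contravariant_sequence_exact₂ hS (ModuleCat.of A A) x
        (by exact ih.elim _ _)
      rw [← hz, h2.elim z 0, Ext.comp_zero]
  refine ⟨fun N hN j hj => hvan N hN j hj, ?_⟩
  have e3 := extEquivLeft (ModuleCat.of A A) ((resEquiv A).toModuleIso) r
  rw [e3.length_eq, ← e.length_eq, (resEquiv A).length_eq, length_quot]

/-- vanishing above the dimension -/
theorem subsingleton_H_of_lt (r : ℕ) (hr : ringKrullDim A = r) (M : Type u) [AddCommGroup M]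
    [Module A M] [Module.Finite A M] (i : ℕ) (hi : r < i) :
    Subsingleton (LocCoh.H (maximalIdeal A) i M) := by
  refine Localalg.VanDim.subsingleton_of_supportDim_lt (TopLC.iface (maximalIdeal A)) i M i le_rfl ?_
  refine (Module.supportDim_le_ringKrullDim (R := A) (M := M)).trans_lt ?_
  rw [hr]
  exact_mod_cast hi

/-- Local duality over a Gorenstein local ring. -/
theorem local_duality (r : ℕ) (hr : ringKrullDim A = r)
    {E : Type u} [AddCommGroup E] [Module A E] (f : ResidueField A →ₗ[A] E)
    (hf : InjHull.IsInjectiveHull f) (M : Type u) [AddCommGroup M] [Module A M]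
    [Module.Finite A M] (i : ℕ) (hi : i ≤ r) :
    Nonempty (LocCoh.H (maximalIdeal A) i M ≃ₗ[A]
      (Ext (ModuleCat.of A M) (ModuleCat.of A A) (r - i) →ₗ[A] E)) := by
  have h := LocDual.local_duality (isGorDim A r hr) (fun N _ => subsingleton_H_of_lt A r hr N (r + 1)
    (Nat.lt_succ_self r)) f hf (r - i) (Nat.sub_le _ _) (ModuleCat.of A M)
  have h1 : r - (r - i) = i := by omega
  rw [h1] at h
  exact h

/-- `dim A_p + dim A/p = dim A`. -/
theorem exists_dims (r : ℕ) (hr : ringKrullDim A = r) (p : PrimeSpectrum A) :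
    ∃ s e : ℕ, ringKrullDim (Localization.AtPrime p.asIdeal) = s ∧
      ringKrullDim (A ⧸ p.asIdeal) = e ∧ s + e = r := by
  have hcm := Groth.Agent.S0341.result A
  have h1 : LocCoh.IsCohenMacaulayModule A A := hcm.supportDim_eq_depth
  have h2 : Module.support A A = Set.univ := by
    rw [Set.eq_univ_iff_forall]
    intro q
    rw [Module.mem_support_iff_exists_annihilator]
    refine ⟨1, ?_⟩
    intro a ha
    rw [Submodule.mem_annihilator_span_singleton] at ha
    have : a = 0 := by simpa using ha
    rw [this]; exact q.asIdeal.zero_mem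
  have h3 := Ega4A.CMCatenary.height_add_ringKrullDim_quotient h1 h2 p.asIdeal
  have h4 : p.asIdeal.height ≠ ⊤ := Ideal.height_ne_top_of_isPrime
  obtain ⟨s, hs⟩ := ENat.ne_top_iff_exists.mp h4
  have : Nontrivial (A ⧸ p.asIdeal) := Ideal.Quotient.nontrivial_iff.mpr p.isPrime.ne_top
  have : IsLocalRing (A ⧸ p.asIdeal) :=
    IsLocalRing.of_surjective' (Ideal.Quotient.mk _) Ideal.Quotient.mk_surjective
  obtain ⟨e, he⟩ := CalgA.RegBasic.ringKrullDim_eq_natCast (A ⧸ p.asIdeal)
  refine ⟨s, e, ?_, he, ?_⟩
  · rw [IsLocalization.AtPrime.ringKrullDim_eq_height p.asIdeal, ← hs]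
    rfl
  · rw [← hs, he, hr] at h3
    exact_mod_cast h3

instance isGorensteinLocalRing_localization (p : Ideal A) [p.IsPrime] :
    LocCoh.IsGorensteinLocalRing (Localization.AtPrime p) := by
  have h := LoccohB.GorBasic.isGorensteinRing_of_isGorensteinLocalRing (R := A) inferInstance
  exact h.isGorensteinLocalRing_localization p

theorem subsingleton_H_iff (r : ℕ) (hr : ringKrullDim A = r) (M : Type u) [AddCommGroup M] [Module A M]
    [Module.Finite A M] (i : ℕ) (hi : i ≤ r) :
    Subsingleton (LocCoh.H (maximalIdeal A) i M) ↔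
      Subsingleton (Ext.{u} (ModuleCat.of A M) (ModuleCat.of A A) (r - i)) := by
  obtain ⟨E, _, _, f, hf⟩ := S0299.result (R := A) (ResidueField A)
  obtain ⟨e⟩ := local_duality A r hr f hf M i hi
  rw [e.toEquiv.subsingleton_congr, MatlisLen.subsingleton_dual_iff hf]

/-- `Hom(-, E)` preserves annihilators. -/
theorem annihilator_dual {R : Type u} [CommRing R] [IsNoetherianRing R] [IsLocalRing R]
    {E : Type u} [AddCommGroup E] [Module R E] {f : ResidueField R →ₗ[R] E}
    (hf : InjHull.IsInjectiveHull f) (X : Type u) [AddCommGroup X] [Module R X] :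
    Module.annihilator R (X →ₗ[R] E) = Module.annihilator R X := by
  refine le_antisymm (fun a ha => ?_) (fun a ha => ?_)
  · rw [Module.mem_annihilator] at ha
    set Y : Submodule R X := LinearMap.range (LinearMap.lsmul R X a) with hY
    have h1 : Subsingleton (Y →ₗ[R] E) := by
      refine ⟨fun φ φ' => ?_⟩
      have key : ∀ φ : Y →ₗ[R] E, φ = 0 := by
        intro φ
        obtain ⟨ψ, hψ⟩ := Module.Injective.out (R := R) (Q := E) (self := hf.isInjective)
          Y.subtype Y.injective_subtype φ
        refine LinearMap.ext fun y => ?_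
        obtain ⟨y, x, rfl⟩ := y
        rw [← hψ]
        change ψ (a • x) = 0
        rw [map_smul]
        exact DFunLike.congr_fun (ha ψ) x
      rw [key φ, key φ']
    have h2 := (MatlisLen.subsingleton_dual_iff hf).1 h1
    rw [Module.mem_annihilator]
    intro x
    exact congrArg Subtype.val (Subsingleton.elim (⟨a • x, ⟨x, rfl⟩⟩ : Y) 0)
  · rw [Module.mem_annihilator] at *
    intro φ
    ext x
    rw [LinearMap.smul_apply, ← map_smul, ha x, map_zero, LinearMap.zero_apply]

/-- The annihilator of `H^i_m(M)` is that of `Ext^{r-i}(M, A)`. -/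
theorem annihilator_H (r : ℕ) (hr : ringKrullDim A = r) (M : Type u) [AddCommGroup M] [Module A M]
    [Module.Finite A M] (i : ℕ) (hi : i ≤ r) :
    Module.annihilator A (LocCoh.H (maximalIdeal A) i M) =
      Module.annihilator A (Ext.{u} (ModuleCat.of A M) (ModuleCat.of A A) (r - i)) := by
  obtain ⟨E, _, _, f, hf⟩ := S0299.result (R := A) (ResidueField A)
  obtain ⟨e⟩ := local_duality A r hr f hf M i hi
  rw [e.annihilator_eq, annihilator_dual hf]

theorem finite_ext (M : Type u) [AddCommGroup M] [Module A M] [Module.Finite A M] (j : ℕ) :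
    Module.Finite A (Ext.{u} (ModuleCat.of A M) (ModuleCat.of A A) j) :=
  inferInstance

theorem isFiniteLength_H_iff (r : ℕ) (hr : ringKrullDim A = r) (M : Type u) [AddCommGroup M]
    [Module A M] [Module.Finite A M] (i : ℕ) (hi : i ≤ r) :
    IsFiniteLength A (LocCoh.H (maximalIdeal A) i M) ↔
      IsFiniteLength A (Ext.{u} (ModuleCat.of A M) (ModuleCat.of A A) (r - i)) := by
  obtain ⟨E, _, _, f, hf⟩ := S0299.result (R := A) (ResidueField A)
  obtain ⟨e⟩ := local_duality A r hr f hf M i hi
  have hfin := finite_ext A M (r - i)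
  rw [← Module.length_ne_top_iff, ← Module.length_ne_top_iff, e.length_eq,
    Module.length_ne_top_iff, Module.length_ne_top_iff, MatlisLen.isFiniteLength_dual_iff hf]

/-- the stalks of `Ext^{r-i}(M, A)` in terms of local cohomology. -/
theorem notMem_support_iff (r : ℕ) (hr : ringKrullDim A = r) (M : Type u) [AddCommGroup M]
    [Module A M] [Module.Finite A M] (i : ℕ) (hi : i ≤ r) (p : PrimeSpectrum A) :
    p ∉ Module.support A (Ext.{u} (ModuleCat.of A M) (ModuleCat.of A A) (r - i)) ↔
      ∀ (e j : ℕ), ringKrullDim (A ⧸ p.asIdeal) = e → j + e = i →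
        Subsingleton (LocCoh.H (maximalIdeal (Localization.AtPrime p.asIdeal)) j
          (LocalizedModule p.asIdeal.primeCompl M)) := by
  obtain ⟨s, e, hs, he, hse⟩ := exists_dims A r hr p
  rw [← ExtLoc.subsingleton_localized_iff p M A (r - i),
    ExtLoc.ext_subsingleton_congr (Iso.refl _) (ExtLoc.ringEquiv p.asIdeal.primeCompl).toModuleIso]
  by_cases hei : e ≤ i
  · have h1 := subsingleton_H_iff (Localization.AtPrime p.asIdeal) s hs
      (LocalizedModule p.asIdeal.primeCompl M) (i - e) (by omega)
    have h2 : s - (i - e) = r - i := by omega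
    rw [h2] at h1
    rw [← h1]
    constructor
    · intro h e' j he' hj
      have : e' = e := by rw [he] at he'; exact_mod_cast he'.symm
      subst this
      have : j = i - e' := by omega
      rw [this]; exact h
    · intro h
      exact h e (i - e) he (by omega)
  · constructor
    · intro _ e' j he' hj
      have : e' = e := by rw [he] at he'; exact_mod_cast he'.symm
      omega
    · intro _
      have := Localalg.ExtLift.hasInjectiveDimensionLT_of_gorenstein s
        (Localization.AtPrime p.asIdeal) hs
      exact HasInjectiveDimensionLT.subsingleton _ (s + 1) (r - i) (by omega) _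

theorem subsingleton_stalk_of_lt (r : ℕ) (hr : ringKrullDim A = r) (M : Type u) [AddCommGroup M]
    [Module A M] [Module.Finite A M] (i : ℕ) (hi : r < i) (p : PrimeSpectrum A) (e j : ℕ)
    (he : ringKrullDim (A ⧸ p.asIdeal) = e) (hj : j + e = i) :
    Subsingleton (LocCoh.H (maximalIdeal (Localization.AtPrime p.asIdeal)) j
      (LocalizedModule p.asIdeal.primeCompl M)) := by
  obtain ⟨s, e', hs, he', hse⟩ := exists_dims A r hr p
  have : e' = e := by rw [he] at he'; exact_mod_cast he'.symm
  exact subsingleton_H_of_lt (Localization.AtPrime p.asIdeal) s hs _ j (by omega)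

/-- finite length criterion over a Gorenstein local ring. -/
theorem isFiniteLength_H_iff_stalks (M : Type u) [AddCommGroup M] [Module A M] [Module.Finite A M]
    (i : ℕ) : IsFiniteLength A (LocCoh.H (maximalIdeal A) i M) ↔
      ∀ p : PrimeSpectrum A, p.asIdeal ≠ maximalIdeal A → ∀ (e j : ℕ),
        ringKrullDim (A ⧸ p.asIdeal) = e → j + e = i →
        Subsingleton (LocCoh.H (maximalIdeal (Localization.AtPrime p.asIdeal)) j
          (LocalizedModule p.asIdeal.primeCompl M)) := by
  obtain ⟨r, hr⟩ := CalgA.RegBasic.ringKrullDim_eq_natCast A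
  by_cases hi : i ≤ r
  · have := finite_ext A M (r - i)
    rw [isFiniteLength_H_iff A r hr M i hi, MatlisLen.isFiniteLength_iff_support]
    exact forall_congr' fun p => forall_congr' fun hp => notMem_support_iff A r hr M i hi p
  · constructor
    · intro _ p _ e j he hj
      exact subsingleton_stalk_of_lt A r hr M i (by omega) p e j he hj
    · intro _
      have := subsingleton_H_of_lt A r hr M i (by omega)
      exact IsFiniteLength.of_subsingleton

/-- annihilator criterion over a Gorenstein local ring. -/
theorem le_radical_annihilator_iff_stalks (M : Type u) [AddCommGroup M] [Module A M]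
    [Module.Finite A M] (J : Ideal A) (i : ℕ) :
    J ≤ (Module.annihilator A (LocCoh.H (maximalIdeal A) i M)).radical ↔
      ∀ p : PrimeSpectrum A, ¬ J ≤ p.asIdeal → ∀ (e j : ℕ),
        ringKrullDim (A ⧸ p.asIdeal) = e → j + e = i →
        Subsingleton (LocCoh.H (maximalIdeal (Localization.AtPrime p.asIdeal)) j
          (LocalizedModule p.asIdeal.primeCompl M)) := by
  obtain ⟨r, hr⟩ := CalgA.RegBasic.ringKrullDim_eq_natCast A
  by_cases hi : i ≤ r
  · have := finite_ext A M (r - i)
    rw [annihilator_H A r hr M i hi, Ideal.radical_eq_sInf, le_sInf_iff]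
    constructor
    · intro h p hp
      rw [← notMem_support_iff A r hr M i hi p, Module.support_eq_zeroLocus]
      intro h1
      exact hp (h p.asIdeal ⟨h1, p.isPrime⟩)
    · rintro h P ⟨hP, hPp⟩
      by_contra hcon
      have h1 := h ⟨P, hPp⟩ hcon
      rw [← notMem_support_iff A r hr M i hi ⟨P, hPp⟩, Module.support_eq_zeroLocus] at h1
      exact h1 hP
  · constructor
    · intro _ p _ e j he hj
      exact subsingleton_stalk_of_lt A r hr M i (by omega) p e j he hj
    · intro _
      have := subsingleton_H_of_lt A r hr M i (by omega)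
      rw [Module.annihilator_eq_top_iff.2 this, Ideal.radical_top]
      exact le_top

/-- `ht I + dim A/I = dim A`. -/
theorem height_add_eq (r : ℕ) (hr : ringKrullDim A = r) (I : Ideal A) (g d : ℕ) (hg : I.height = g)
    (hd : ringKrullDim (A ⧸ I) = d) : g + d = r := by
  have hI : I ≠ ⊤ := by
    rintro rfl
    rw [Ideal.height_top] at hg
    exact absurd hg.symm (ENat.natCast_ne_top g)
  have hnt : Nontrivial (A ⧸ I) := Ideal.Quotient.nontrivial_iff.2 hI
  have hfin : FiniteRingKrullDim (A ⧸ I) := by
    rw [finiteRingKrullDim_iff_ne_bot_and_top, hd]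
    exact ⟨WithBot.natCast_ne_bot d, (WithBot.coe_lt_coe.2 (ENat.natCast_lt_top d)).ne⟩
  have key : ∀ p : Ideal A, ∀ hp : p.IsPrime, ∃ s e : ℕ, p.height = s ∧
      ringKrullDim (A ⧸ p) = e ∧ s + e = r := by
    intro p hp
    obtain ⟨s, e, hs, he, hse⟩ := exists_dims A r hr ⟨p, hp⟩
    refine ⟨s, e, ?_, he, hse⟩
    have h1 := IsLocalization.AtPrime.ringKrullDim_eq_height p (Localization.AtPrime p)
    rw [hs] at h1
    exact (WithBot.coe_injective h1).symm
  refine le_antisymm ?_ ?_
  · obtain ⟨p, hp, hIp, hdp⟩ := FormalA.ConnDim.exists_prime_ringKrullDim_quotient_eq (I := I)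
    obtain ⟨s, e, hs, he, hse⟩ := key p hp
    have h1 : e = d := by
      rw [hd, he] at hdp
      exact_mod_cast hdp
    have h2 : g ≤ s := by
      have := Ideal.height_mono hIp
      rw [hg, hs] at this
      exact_mod_cast this
    omega
  · obtain ⟨q, hq, hqh⟩ : ∃ q ∈ I.minimalPrimes, q.height = I.height := by
      have hne : (Set.range fun q : I.minimalPrimes => q.1.height).Nonempty := by
        obtain ⟨q, hq⟩ := Ideal.nonempty_minimalPrimes hI
        exact ⟨_, ⟨q, hq⟩, rfl⟩
      obtain ⟨⟨q, hq⟩, h⟩ := csInf_mem hne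
      refine ⟨q, hq, ?_⟩
      rw [I.height_eq_inf_minimalPrimes, iInf_subtype']
      exact h
    obtain ⟨s, e, hs, he, hse⟩ := key q hq.1.1
    have h1 : s = g := by
      rw [hg, hs] at hqh
      exact_mod_cast hqh
    have h2 : e ≤ d := by
      have := FormalA.ConnDim.ringKrullDim_quotient_le_of_le hq.1.2
      rw [hd, he] at this
      exact_mod_cast this
    omega

end K171.GorDual
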