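import Groth.Agent.LocCoh.K171.GorDual
import Groth.Agent.LocCoh.K171.DimOne
import Groth.Agent.S0342
import Groth.Agent.Ega4C.DepthExt
import Groth.Agent.S2089
import Groth.Agent.Localalg.DepthLC

/-!
# The module `Ext^c(N, B)` over a Gorenstein local ring `B`, for `N` Cohen-Macaulay
-/

set_option autoImplicit false
universe u

open CategoryTheory Abelian Limits IsLocalRing Opposite Pointwise RingTheory.Sequence

namespace K171.Omega

open Groth.Agent Groth.Agent.Sga2 Groth.Agent.Sga2.RegExt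

variable {B : Type u} [CommRing B] [LocCoh.IsGorensteinLocalRing B] {n : ℕ}

/-- Vanishing of `Ext^i(N, B)` for `i < n - dim N`. -/
theorem subsingleton_ext_of_dim (hn : ringKrullDim B = n) (N : Type u) [AddCommGroup N] [Module B N]
    [Module.Finite B N] (s : ℕ) (hs : Module.supportDim B N ≤ s) (i : ℕ) (hi : i + s < n) :
    Subsingleton (Ext.{u} (ModuleCat.of B N) (ModuleCat.of B B) i) := by
  have h1 := GorDual.subsingleton_H_iff B n hn N (n - i) (Nat.sub_le _ _)
  have h2 : n - (n - i) = i := by omega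
  rw [h2] at h1
  rw [← h1]
  refine Localalg.VanDim.subsingleton_of_supportDim_lt (TopLC.iface (maximalIdeal B)) (n - i) N
    (n - i) le_rfl (hs.trans_lt ?_)
  exact_mod_cast (by omega : s < n - i)

theorem isWeaklyRegular_of_subsingleton {R M : Type*} [CommRing R] [AddCommGroup M] [Module R M]
    [Subsingleton M] (rs : List R) : IsWeaklyRegular M rs :=
  ⟨fun i _ a b _ => by
    obtain ⟨a, rfl⟩ := Submodule.Quotient.mk_surjective _ a
    obtain ⟨b, rfl⟩ := Submodule.Quotient.mk_surjective _ b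
    rw [Subsingleton.elim a b]⟩

theorem subsingleton_ext_of_subsingleton {R : Type u} [CommRing R] (N M : Type u) [AddCommGroup N]
    [Module R N] [AddCommGroup M] [Module R M] [Subsingleton N] (c : ℕ) :
    Subsingleton (Ext.{u} (ModuleCat.of R N) (ModuleCat.of R M) c) := by
  have hz := ModuleCat.isZero_of_subsingleton (ModuleCat.of R N)
  refine subsingleton_of_forall_eq 0 fun y => ?_
  rw [← Ext.mk₀_id_comp y, hz.eq_of_src (𝟙 _) 0]
  simp

section LES

variable {R : Type u} [CommRing R] (N M : Type u) [AddCommGroup N] [Module R N] [AddCommGroup M]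
  [Module R M] {x : R} (hx : IsSMulRegular N x)

theorem ses_zero (x : R) : (x • 𝟙 (ModuleCat.of R N)) ≫
    (ModuleCat.ofHom (Submodule.mkQ (x • (⊤ : Submodule R N))) :
      ModuleCat.of R N ⟶ ModuleCat.of R (QuotSMulTop x N)) = 0 :=
  (ModuleCat.smulShortComplex (ModuleCat.of R N) x).zero

include hx

theorem ses : (ShortComplex.mk (x • 𝟙 (ModuleCat.of R N))
    (ModuleCat.ofHom (Submodule.mkQ (x • (⊤ : Submodule R N))) :
      ModuleCat.of R N ⟶ ModuleCat.of R (QuotSMulTop x N)) (ses_zero N x)).ShortExact :=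
  IsSMulRegular.smulShortComplex_shortExact (M := ModuleCat.of R N) hx

/-- `Ext^i(N/xN, M) = 0` if `Ext^{i-1}(N, M) = Ext^i(N, M) = 0`. -/
theorem subsingleton_ext_quot (i : ℕ)
    (h1 : Subsingleton (Ext.{u} (ModuleCat.of R N) (ModuleCat.of R M) i))
    (h2 : Subsingleton (Ext.{u} (ModuleCat.of R N) (ModuleCat.of R M) (i + 1))) :
    Subsingleton (Ext.{u} (ModuleCat.of R (QuotSMulTop x N)) (ModuleCat.of R M) (i + 1)) := by
  have hS := ses N hx
  refine subsingleton_of_forall_eq 0 fun y => ?_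
  obtain ⟨z, hz⟩ := Ext.contravariant_sequence_exact₃ hS (ModuleCat.of R M) y (h2.elim _ _)
    (add_comm 1 i)
  rw [← hz, h1.elim z 0, Ext.comp_zero]

theorem isSMulRegular_ext (i : ℕ)
    (h : Subsingleton (Ext.{u} (ModuleCat.of R (QuotSMulTop x N)) (ModuleCat.of R M) i)) :
    IsSMulRegular (Ext.{u} (ModuleCat.of R N) (ModuleCat.of R M) i) x := by
  have hS := ses N hx
  rw [isSMulRegular_iff_right_eq_zero_of_smul]
  intro e he
  obtain ⟨z, hz⟩ := Ext.contravariant_sequence_exact₂ hS (ModuleCat.of R M) e (by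
    rw [Ext.mk₀_smul, Ext.smul_comp, Ext.mk₀_id_comp]
    exact he)
  rw [← hz]
  have : z = 0 := h.elim _ _
  rw [this, Ext.comp_zero]

/-- `Ext^i(N, M) / x = Ext^{i+1}(N/xN, M)` if `Ext^{i+1}(N, M) = 0`. -/
theorem exists_quotEquiv (i : ℕ)
    (h : Subsingleton (Ext.{u} (ModuleCat.of R N) (ModuleCat.of R M) (i + 1))) :
    Nonempty (QuotSMulTop x (Ext.{u} (ModuleCat.of R N) (ModuleCat.of R M) i) ≃ₗ[R]
      Ext.{u} (ModuleCat.of R (QuotSMulTop x N)) (ModuleCat.of R M) (i + 1)) := by
  have hS := ses N hx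
  let δ : Ext.{u} (ModuleCat.of R N) (ModuleCat.of R M) i →ₗ[R]
      Ext.{u} (ModuleCat.of R (QuotSMulTop x N)) (ModuleCat.of R M) (i + 1) :=
    Ext.precompOfLinear hS.extClass R (ModuleCat.of R M) (add_comm 1 i)
  have hδ : Function.Surjective δ := by
    intro y
    obtain ⟨z, hz⟩ := Ext.contravariant_sequence_exact₃ hS (ModuleCat.of R M) y (h.elim _ _)
      (add_comm 1 i)
    exact ⟨z, hz⟩
  have hker : LinearMap.ker δ = x • (⊤ : Submodule R (Ext.{u} (ModuleCat.of R N) (ModuleCat.of R M) i)) := by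
    ext y
    rw [Submodule.mem_smul_pointwise_iff_exists, LinearMap.mem_ker]
    constructor
    · intro hy
      obtain ⟨z, hz⟩ := Ext.contravariant_sequence_exact₁ hS (ModuleCat.of R M) y (add_comm 1 i) hy
      rw [Ext.mk₀_smul, Ext.smul_comp, Ext.mk₀_id_comp] at hz
      exact ⟨z, trivial, hz⟩
    · rintro ⟨z, -, rfl⟩
      change hS.extClass.comp (x • z) (add_comm 1 i) = 0
      have h3 : x • z = (Ext.mk₀ (x • 𝟙 (ModuleCat.of R N))).comp z (zero_add i) := by
        rw [Ext.mk₀_smul, Ext.smul_comp, Ext.mk₀_id_comp]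
      rw [h3]
      exact ShortComplex.ShortExact.extClass_comp_assoc hS z
  exact ⟨(Submodule.quotEquivOfEq _ _ hker.symm).trans (δ.quotKerEquivOfSurjective hδ)⟩

end LES

theorem isWeaklyRegular_ext (hn : ringKrullDim B = n) (rs : List B) :
    ∀ (N : Type u) [AddCommGroup N] [Module B N] [Module.Finite B N] (s c : ℕ), s + c = n →
      Module.supportDim B N ≤ s →
      (∀ i, c < i → Subsingleton (Ext.{u} (ModuleCat.of B N) (ModuleCat.of B B) i)) →
      (∀ x ∈ rs, x ∈ maximalIdeal B) → IsWeaklyRegular N rs →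
      IsWeaklyRegular (Ext.{u} (ModuleCat.of B N) (ModuleCat.of B B) c) rs := by
  induction rs with
  | nil => intro N _ _ _ s c _ _ _ _ _; exact IsWeaklyRegular.nil _ _
  | cons x rs ih =>
    intro N _ _ _ s c hsc hs hvan hmem hreg
    obtain ⟨hx, hreg'⟩ := (isWeaklyRegular_cons_iff N x rs).1 hreg
    have hxm := hmem x List.mem_cons_self
    rcases subsingleton_or_nontrivial N with hN | hN
    · have := subsingleton_ext_of_subsingleton (R := B) N B c
      exact isWeaklyRegular_of_subsingleton _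
    have hd1 : Module.supportDim B (QuotSMulTop x N) + 1 ≤ s :=
      (Module.supportDim_quotSMulTop_succ_le_of_notMem_minimalPrimes
          (fun _ => hx.notMem_of_mem_minimalPrimes)).trans hs
    have hnt : Nontrivial (QuotSMulTop x N) := by
      refine Submodule.Quotient.nontrivial_iff.2 fun h => ?_
      have h2 := Submodule.eq_bot_of_le_smul_of_le_jacobson_bot (Ideal.span {x})
        (⊤ : Submodule B N) Module.Finite.fg_top (by
          rw [Submodule.ideal_span_singleton_smul, h]) (by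
          rw [Ideal.span_le]
          rintro _ rfl
          exact IsLocalRing.maximalIdeal_le_jacobson _ hxm)
      exact top_ne_bot h2
    have hne : Module.supportDim B (QuotSMulTop x N) ≠ ⊥ :=
      (Module.supportDim_ne_bot_iff_nontrivial _ _).2 hnt
    obtain ⟨t, ht⟩ := WithBot.ne_bot_iff_exists.1 hne
    have hts : t + 1 ≤ s := by
      rw [← ht] at hd1
      exact_mod_cast hd1
    obtain ⟨t, rfl⟩ : ∃ t' : ℕ, t = t' := by
      have : t ≠ ⊤ := by
        rintro rfl
        rw [top_add] at hts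
        exact ENat.natCast_ne_top s (top_le_iff.1 hts)
      obtain ⟨t', ht'⟩ := ENat.ne_top_iff_exists.1 this
      exact ⟨t', ht'.symm⟩
    have hts' : t + 1 ≤ s := by exact_mod_cast hts
    obtain ⟨s, rfl⟩ : ∃ s', s = s' + 1 := ⟨s - 1, by omega⟩
    have hd2 : Module.supportDim B (QuotSMulTop x N) ≤ s := by
      rw [← ht]
      exact_mod_cast (by omega : t ≤ s)
    have h1 := isSMulRegular_ext N B hx c (subsingleton_ext_of_dim hn (QuotSMulTop x N) s hd2 c (by omega))
    obtain ⟨e⟩ := exists_quotEquiv N B hx c (hvan (c + 1) (Nat.lt_succ_self c))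
    refine (isWeaklyRegular_cons_iff _ x rs).2 ⟨h1, (e.isWeaklyRegular_congr rs).2 ?_⟩
    refine ih (QuotSMulTop x N) s (c + 1) (by omega) hd2 (fun i hi => ?_)
      (fun y hy => hmem y (List.mem_cons_of_mem x hy)) hreg'
    obtain ⟨i, rfl⟩ : ∃ i', i = i' + 1 := ⟨i - 1, by omega⟩
    exact subsingleton_ext_quot N B hx i (hvan i (by omega)) (hvan (i + 1) (by omega))

section DepthQuot

theorem le_depth_quotient {R : Type u} [CommRing R] [IsNoetherianRing R] [IsLocalRing R] (I : Ideal R)
    (d : ℕ) (hR : ((d + 1 : ℕ) : ℕ∞) ≤ LocCoh.depth R R) (hI : ((d + 1 : ℕ) : ℕ∞) ≤ LocCoh.depth R I) :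
    (d : ℕ∞) ≤ LocCoh.depth R (R ⧸ I) := by
  rw [Ega4C.DepthExt.natCast_le_depth_iff_ext] at *
  intro i hi
  have hS : (ShortComplex.mk (ModuleCat.ofHom (Submodule.subtype I)) (ModuleCat.ofHom (Submodule.mkQ I))
      (by ext x; exact (Submodule.Quotient.mk_eq_zero _).2 x.2)).ShortExact := shortExact_of_submodule I
  refine subsingleton_of_forall_eq 0 fun y => ?_
  have h1 := hI (i + 1) (by omega)
  have h2 := hR i (by omega)
  obtain ⟨z, hz⟩ := Ext.covariant_sequence_exact₃ (ModuleCat.of R (R ⧸ maximalIdeal R)) hS y rfl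
    (h1.elim _ _)
  rw [← hz, h2.elim z 0, Ext.zero_comp]

end DepthQuot

section CM

variable (hn : ringKrullDim B = n) (N : Type u) [AddCommGroup N] [Module B N] [Module.Finite B N]
  (s c : ℕ) (hsc : s + c = n) (hs : Module.supportDim B N ≤ s) (hd : (s : ℕ∞) ≤ LocCoh.depth B N)

include hn hsc hs hd

/-- `Ext^i(N, B) = 0` for `i > n - depth N`. -/
theorem subsingleton_ext_of_depth (i : ℕ) (hi : c < i) :
    Subsingleton (Ext.{u} (ModuleCat.of B N) (ModuleCat.of B B) i) := by
  by_cases hin : i ≤ n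
  · have h1 := GorDual.subsingleton_H_iff B n hn N (n - i) (Nat.sub_le _ _)
    have h2 : n - (n - i) = i := by omega
    rw [h2] at h1
    rw [← h1]
    refine Localalg.DepthLC.subsingleton_H_of_lt_idealDepth (maximalIdeal B) N _ ?_
    refine lt_of_lt_of_le ?_ hd
    exact_mod_cast (by omega : n - i < s)
  · have := Localalg.ExtLift.hasInjectiveDimensionLT_of_gorenstein n B hn
    exact HasInjectiveDimensionLT.subsingleton _ (n + 1) i (by omega) _

theorem le_depth_ext [Nontrivial N] :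
    (s : ℕ∞) ≤ LocCoh.depth B (Ext.{u} (ModuleCat.of B N) (ModuleCat.of B B) c) := by
  obtain ⟨rs, hl, hreg, hmem⟩ := (Ega4C.DepthExt.natCast_le_depth_iff_exists N s).1 hd
  have h1 := isWeaklyRegular_ext hn rs N s c hsc hs
    (subsingleton_ext_of_depth hn N s c hsc hs hd) hmem hreg
  rcases subsingleton_or_nontrivial (Ext.{u} (ModuleCat.of B N) (ModuleCat.of B B) c) with h | h
  · rw [Ega4C.DepthExt.depth_eq_top_of_subsingleton]
    exact le_top
  · exact (Ega4C.DepthExt.natCast_le_depth_iff_exists _ s).2 ⟨rs, hl, h1, hmem⟩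

end CM

section Prime

variable (hn : ringKrullDim B = n) (p : Ideal B) [hp : p.IsPrime] (d r : ℕ) (hdr : d + r = n)
  (hd : ringKrullDim (B ⧸ p) = d) (hr : p.height = r)

/-- `(B/p)_p` is the residue field. -/
theorem exists_resEquiv (R : Type u) [CommRing R] (p : Ideal R) [p.IsPrime] :
    Nonempty (LocalizedModule p.primeCompl (R ⧸ p) ≃ₗ[Localization.AtPrime p]
      (Localization.AtPrime p ⧸ maximalIdeal (Localization.AtPrime p))) := by
  let u : LocalizedModule p.primeCompl (R ⧸ p) := LocalizedModule.mk (1 : R ⧸ p) (1 : p.primeCompl)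
  let φ : Localization.AtPrime p →ₗ[Localization.AtPrime p] LocalizedModule p.primeCompl (R ⧸ p) :=
    LinearMap.toSpanSingleton _ _ u
  have hφ : Function.Surjective φ := by
    intro x
    induction x using LocalizedModule.induction_on with
    | h m s =>
      obtain ⟨b, rfl⟩ := Ideal.Quotient.mk_surjective m
      refine ⟨Localization.mk b s, ?_⟩
      change Localization.mk b s • (LocalizedModule.mk (1 : R ⧸ p) 1 :
        LocalizedModule p.primeCompl (R ⧸ p)) = _
      rw [LocalizedModule.mk_smul_mk, mul_one]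
      congr 1
      rw [Algebra.smul_def, mul_one]
      rfl
  have hker : LinearMap.ker φ = maximalIdeal (Localization.AtPrime p) := by
    symm
    refine (IsLocalRing.maximalIdeal.isMaximal _).eq_of_le ?_ ?_
    · intro h
      have h1 : (1 : Localization.AtPrime p) ∈ LinearMap.ker φ := h ▸ trivial
      have h2 : (LocalizedModule.mk (1 : R ⧸ p) (1 : p.primeCompl) :
          LocalizedModule p.primeCompl (R ⧸ p)) = 0 := by
        have := LinearMap.mem_ker.1 h1
        change (1 : Localization.AtPrime p) • u = 0 at this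
        rwa [one_smul] at this
      rw [← LocalizedModule.zero_mk (1 : p.primeCompl), LocalizedModule.mk_eq] at h2
      obtain ⟨t, ht⟩ := h2
      have h3 : (t : R) • (1 : R ⧸ p) = 0 := by
        simpa [Submonoid.smul_def] using ht
      rw [Algebra.smul_def, mul_one] at h3
      exact t.2 (Ideal.Quotient.eq_zero_iff_mem.1 h3)
    · intro x hx
      rw [← Localization.AtPrime.map_eq_maximalIdeal] at hx
      have h1 : (p.map (algebraMap R (Localization.AtPrime p))) ≤ LinearMap.ker φ := by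
        rw [Ideal.map_le_iff_le_comap]
        intro b hb
        change φ (algebraMap R (Localization.AtPrime p) b) = 0
        change algebraMap R (Localization.AtPrime p) b • u = 0
        rw [algebraMap_smul]
        change b • (LocalizedModule.mk (1 : R ⧸ p) (1 : p.primeCompl) :
          LocalizedModule p.primeCompl (R ⧸ p)) = 0
        rw [LocalizedModule.smul'_mk]
        have h3 : b • (1 : R ⧸ p) = 0 := by
          rw [Algebra.smul_def, mul_one]
          exact Ideal.Quotient.eq_zero_iff_mem.2 hb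
        rw [h3, LocalizedModule.zero_mk]
      exact h1 hx
  exact ⟨((Submodule.quotEquivOfEq _ _ hker.symm).trans (φ.quotKerEquivOfSurjective hφ)).symm⟩

include hn hdr hd

theorem supportDim_quot : Module.supportDim B (B ⧸ p) ≤ d := by
  rw [Module.supportDim_quotient_eq_ringKrullDim, hd]

variable [hcm : LocCoh.IsCohenMacaulayLocalRing (B ⧸ p)]

omit hn hdr in
theorem depth_self : LocCoh.depth (B ⧸ p) (B ⧸ p) = d := by
  have h1 := hcm.supportDim_eq_depth
  rw [Module.supportDim_self_eq_ringKrullDim, hd] at h1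
  exact (WithBot.coe_injective h1).symm

omit hn hdr in
theorem depth_quot : LocCoh.depth B (B ⧸ p) = d := by
  rw [← depth_self p d hd]
  exact Ega4C.DepthExt.depth_congr_of_surjective (Ideal.Quotient.mk p) Ideal.Quotient.mk_surjective
    (AddEquiv.refl _) (fun r m => rfl)

theorem le_depth_omega :
    (d : ℕ∞) ≤ LocCoh.depth B (Ext.{u} (ModuleCat.of B (B ⧸ p)) (ModuleCat.of B B) r) :=
  le_depth_ext hn (B ⧸ p) d r hdr (supportDim_quot hn p d r hdr hd) (depth_quot p d hd).ge

/-- elements outside `p` are regular on `ω`. -/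
theorem eq_zero_of_smul_eq_zero {s : B} (hs : s ∉ p)
    {w : Ext.{u} (ModuleCat.of B (B ⧸ p)) (ModuleCat.of B B) r} (h : s • w = 0) : w = 0 := by
  by_contra hw
  have h1 : s ∈ ⋃ q ∈ associatedPrimes B (Ext.{u} (ModuleCat.of B (B ⧸ p)) (ModuleCat.of B B) r),
      (q : Set B) := by
    rw [biUnion_associatedPrimes_eq_zero_divisors]
    exact ⟨w, hw, h⟩
  obtain ⟨q, hq, hsq⟩ := Set.mem_iUnion₂.1 h1
  have hpq : p ≤ q := by
    obtain ⟨-, x, hx⟩ := isAssociatedPrime_iff.1 hq
    intro a ha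
    rw [hx, Submodule.mem_colon_singleton, Submodule.mem_bot]
    have h2 : a • 𝟙 (ModuleCat.of B (B ⧸ p)) = 0 := by
      refine ModuleCat.hom_ext (LinearMap.ext fun y => ?_)
      change a • y = 0
      obtain ⟨y, rfl⟩ := Ideal.Quotient.mk_surjective y
      rw [Algebra.smul_def, Ideal.Quotient.algebraMap_eq, ← map_mul]
      exact Ideal.Quotient.eq_zero_iff_mem.2 (Ideal.mul_mem_right _ _ ha)
    have h3 : (Ext.mk₀ (a • 𝟙 (ModuleCat.of B (B ⧸ p)))).comp x (zero_add r) = a • x := by
      rw [Ext.mk₀_smul, Ext.smul_comp, Ext.mk₀_id_comp]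
    rw [← h3, h2, Ext.mk₀_zero, Ext.zero_comp]
  have hqp : q = p := by
    by_contra hne
    have hlt : p < q := lt_of_le_of_ne hpq (Ne.symm hne)
    have h4 := Groth.Agent.S2089.result q hq
    have h5 : (d : WithBot ℕ∞) ≤ ringKrullDim (B ⧸ q) :=
      le_trans (by exact_mod_cast le_depth_omega hn p d r hdr hd) h4
    have h6 : ringKrullDim (B ⧸ q) + 1 ≤ d := by
      rw [← hd]
      have := hq.isPrime
      exact DimOne.ringKrullDim_quotient_add_one_le_of_lt hlt
    have h7 : ((d + 1 : ℕ) : WithBot ℕ∞) ≤ d := by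
      push_cast
      exact le_trans (by gcongr) h6
    exact absurd (by exact_mod_cast h7 : d + 1 ≤ d) (by omega)
  exact hs (hqp ▸ hsq)

/-- `ω` localizes to a one dimensional vector space. -/
theorem exists_generator (hr : p.height = r) : ∃ w₀ : Ext.{u} (ModuleCat.of B (B ⧸ p)) (ModuleCat.of B B) r,
    w₀ ≠ 0 ∧ ∀ w : Ext.{u} (ModuleCat.of B (B ⧸ p)) (ModuleCat.of B B) r,
      ∃ t : B, t ∉ p ∧ ∃ b : B, t • w = b • w₀ := by
  set S := p.primeCompl with hS
  have hC : ringKrullDim (Localization.AtPrime p) = r := by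
    rw [IsLocalization.AtPrime.ringKrullDim_eq_height p, hr]
    rfl
  have hG := GorDual.isGorDim (Localization.AtPrime p) r hC
  set Y := Ext.{u} ((ExtLoc.L S).obj (ModuleCat.of B (B ⧸ p))) ((ExtLoc.L S).obj (ModuleCat.of B B)) r with hY
  have hlen : Module.length (Localization.AtPrime p) Y = 1 := by
    rw [← hG.len]
    obtain ⟨e0⟩ := exists_resEquiv B p
    have e1 := extEquivLeft ((ExtLoc.L S).obj (ModuleCat.of B B))
      (((ExtLoc.objEquiv S (B ⧸ p)).trans e0).toModuleIso) r
    have e2 := extEquivRight (ModuleCat.of (Localization.AtPrime p)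
      (Localization.AtPrime p ⧸ maximalIdeal (Localization.AtPrime p)))
      (((ExtLoc.objEquiv S B).trans (ExtLoc.ringEquiv S)).toModuleIso) r
    exact (e1.symm.trans e2).length_eq
  have hsimple : IsSimpleModule (Localization.AtPrime p) Y := Module.length_eq_one_iff.1 hlen
  have hloc := ExtLoc.locExt S (ModuleCat.of B B) r (ModuleCat.of B (B ⧸ p))
  have hnt := hsimple.nontrivial
  obtain ⟨y, hy⟩ := exists_ne (0 : Y)
  obtain ⟨s, w₀, hw₀⟩ := hloc.surj y
  have himg : w₀.mapExactFunctor (ExtLoc.L S) ≠ 0 := by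
    rw [hw₀]
    intro h
    have hu : IsUnit (algebraMap B (Localization S) s) := IsLocalization.map_units (Localization S) s
    exact hy ((hu.smul_eq_zero).1 h)
  have hinj : ∀ w : Ext.{u} (ModuleCat.of B (B ⧸ p)) (ModuleCat.of B B) r,
      w.mapExactFunctor (ExtLoc.L S) = 0 → w = 0 := by
    intro w hw
    obtain ⟨s, hs⟩ := hloc.inj w hw
    exact eq_zero_of_smul_eq_zero hn p d r hdr hd s.2 hs
  refine ⟨w₀, fun h => himg (by rw [h, Ext.mapExactFunctor_zero]), fun w => ?_⟩
  have hspan : Submodule.span (Localization.AtPrime p) {w₀.mapExactFunctor (ExtLoc.L S)} = ⊤ := by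
    rcases eq_bot_or_eq_top (Submodule.span (Localization.AtPrime p)
      {w₀.mapExactFunctor (ExtLoc.L S)}) with h | h
    · exact absurd (Submodule.span_singleton_eq_bot.1 h) himg
    · exact h
  have hmem : w.mapExactFunctor (ExtLoc.L S) ∈
      Submodule.span (Localization.AtPrime p) {w₀.mapExactFunctor (ExtLoc.L S)} := hspan ▸ trivial
  obtain ⟨c, hc⟩ := Submodule.mem_span_singleton.1 hmem
  obtain ⟨⟨b, t⟩, hbt⟩ := IsLocalization.surj S c
  refine ⟨t, t.2, b, ?_⟩
  rw [← sub_eq_zero]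
  apply hinj
  rw [← Functor.mapExtAddHom_apply, map_sub, Functor.mapExtAddHom_apply,
    Functor.mapExtAddHom_apply, ExtLoc.mapExt_smul, ExtLoc.mapExt_smul, ← hc, smul_smul, ← hbt,
    mul_comm, sub_self]

/-- `ω` is isomorphic to a nonzero ideal of `B/p`. -/
theorem exists_ideal (hr : p.height = r) : ∃ I : Ideal (B ⧸ p), I ≠ ⊥ ∧
    Nonempty (Ext.{u} (ModuleCat.of B (B ⧸ p)) (ModuleCat.of B B) r ≃ₗ[B] I) := by
  obtain ⟨w₀, hw₀, hgen⟩ := exists_generator hn p d r hdr hd hr
  -- a common denominator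
  obtain ⟨t, htp, ht⟩ : ∃ t : B, t ∉ p ∧ ∀ w : Ext.{u} (ModuleCat.of B (B ⧸ p)) (ModuleCat.of B B) r,
      t • w ∈ Submodule.span B {w₀} := by
    obtain ⟨s, hs⟩ : (⊤ : Submodule B (Ext.{u} (ModuleCat.of B (B ⧸ p)) (ModuleCat.of B B) r)).FG :=
      Module.Finite.fg_top
    choose t ht b hb using hgen
    refine ⟨∏ w ∈ s, t w, fun h => ?_, fun w => ?_⟩
    · obtain ⟨w, -, hw⟩ := (hp.prod_mem_iff).1 h
      exact ht w hw
    · have hw : w ∈ Submodule.span B (s : Set (Ext.{u} (ModuleCat.of B (B ⧸ p)) (ModuleCat.of B B) r)) :=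
        hs ▸ trivial
      induction hw using Submodule.span_induction with
      | mem w hw =>
        have h1 : t w ∣ ∏ w ∈ s, t w := Finset.dvd_prod_of_mem t hw
        obtain ⟨c, hc⟩ := h1
        rw [hc, mul_comm, mul_smul, hb]
        exact Submodule.smul_mem _ _ (Submodule.smul_mem _ _ (Submodule.mem_span_singleton_self _))
      | zero => rw [smul_zero]; exact Submodule.zero_mem _
      | add x y _ _ hx hy => rw [smul_add]; exact Submodule.add_mem _ hx hy
      | smul a x _ hx => rw [smul_comm]; exact Submodule.smul_mem _ _ hx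
  -- `B/p ≃ B w₀`
  have hpw : ∀ a ∈ p, ∀ x : Ext.{u} (ModuleCat.of B (B ⧸ p)) (ModuleCat.of B B) r, a • x = 0 := by
    intro a ha x
    have h2 : a • 𝟙 (ModuleCat.of B (B ⧸ p)) = 0 := by
      refine ModuleCat.hom_ext (LinearMap.ext fun y => ?_)
      change a • y = 0
      obtain ⟨y, rfl⟩ := Ideal.Quotient.mk_surjective y
      rw [Algebra.smul_def, Ideal.Quotient.algebraMap_eq, ← map_mul]
      exact Ideal.Quotient.eq_zero_iff_mem.2 (Ideal.mul_mem_right _ _ ha)
    have h3 : (Ext.mk₀ (a • 𝟙 (ModuleCat.of B (B ⧸ p)))).comp x (zero_add r) = a • x := by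
      rw [Ext.mk₀_smul, Ext.smul_comp, Ext.mk₀_id_comp]
    rw [← h3, h2, Ext.mk₀_zero, Ext.zero_comp]
  have hker : LinearMap.ker (LinearMap.toSpanSingleton B
      (Ext.{u} (ModuleCat.of B (B ⧸ p)) (ModuleCat.of B B) r) w₀) = p := by
    ext a
    rw [LinearMap.mem_ker, LinearMap.toSpanSingleton_apply]
    constructor
    · intro h
      by_contra hap
      exact hw₀ (eq_zero_of_smul_eq_zero hn p d r hdr hd hap h)
    · intro h
      exact hpw a h w₀
  have e : (B ⧸ p) ≃ₗ[B] Submodule.span B {w₀} :=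
    ((Submodule.quotEquivOfEq _ _ hker.symm).trans (LinearMap.quotKerEquivRange _)).trans
      (LinearEquiv.ofEq _ _ (LinearMap.range_toSpanSingleton w₀))
  let f : Ext.{u} (ModuleCat.of B (B ⧸ p)) (ModuleCat.of B B) r →ₗ[B] Submodule.span B {w₀} :=
    (LinearMap.lsmul B _ t).codRestrict _ ht
  have hf : Function.Injective f := by
    rw [injective_iff_map_eq_zero]
    intro w hw
    exact eq_zero_of_smul_eq_zero hn p d r hdr hd htp (congrArg Subtype.val hw)
  let θ : Ext.{u} (ModuleCat.of B (B ⧸ p)) (ModuleCat.of B B) r →ₗ[B] (B ⧸ p) := e.symm.toLinearMap ∘ₗ f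
  have hθ : Function.Injective θ := e.symm.injective.comp hf
  let I : Ideal (B ⧸ p) :=
    { carrier := Set.range θ
      add_mem' := by
        rintro _ _ ⟨x, rfl⟩ ⟨y, rfl⟩
        exact ⟨x + y, map_add _ _ _⟩
      zero_mem' := ⟨0, map_zero _⟩
      smul_mem' := by
        rintro c _ ⟨x, rfl⟩
        obtain ⟨c, rfl⟩ := Ideal.Quotient.mk_surjective c
        exact ⟨c • x, by rw [map_smul, Algebra.smul_def]; rfl⟩ }
  let θ' : Ext.{u} (ModuleCat.of B (B ⧸ p)) (ModuleCat.of B B) r →ₗ[B] I :=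
    { toFun := fun x => ⟨θ x, x, rfl⟩
      map_add' := fun x y => Subtype.ext (map_add θ x y)
      map_smul' := fun a x => Subtype.ext (map_smul θ a x) }
  have hθ' : Function.Bijective θ' :=
    ⟨fun x y h => hθ (congrArg Subtype.val h), by
      rintro ⟨_, x, rfl⟩
      exact ⟨x, rfl⟩⟩
  refine ⟨I, fun h => hw₀ ?_, ⟨LinearEquiv.ofBijective θ' hθ'⟩⟩
  have h1 : θ w₀ ∈ I := ⟨w₀, rfl⟩
  rw [h, Ideal.mem_bot] at h1
  exact hθ (h1.trans (map_zero θ).symm)

/-- The canonical ideal is unmixed of height one. -/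
theorem height_eq_one (hr : p.height = r) (I : Ideal (B ⧸ p)) (hI : I ≠ ⊥)
    (e : Ext.{u} (ModuleCat.of B (B ⧸ p)) (ModuleCat.of B B) r ≃ₗ[B] I) (hI1 : I ≠ ⊤)
    (q : Ideal (B ⧸ p)) (hq : q ∈ associatedPrimes (B ⧸ p) ((B ⧸ p) ⧸ I)) : q.height = 1 := by
  have hqp := hq.isPrime
  have hIq : I ≤ q := by
    obtain ⟨-, x, hx⟩ := isAssociatedPrime_iff.1 hq
    intro a ha
    rw [hx, Submodule.mem_colon_singleton, Submodule.mem_bot]
    obtain ⟨x, rfl⟩ := Ideal.Quotient.mk_surjective x
    change Ideal.Quotient.mk I (a * x) = 0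
    exact Ideal.Quotient.eq_zero_iff_mem.2 (Ideal.mul_mem_right _ _ ha)
  have hq0 : (⊥ : Ideal (B ⧸ p)) < q := lt_of_lt_of_le (bot_lt_iff_ne_bot.2 hI) hIq
  have h0 : 1 ≤ q.height := by
    rw [Order.one_le_iff_ne_zero]
    intro h
    have h1 := Ideal.height_eq_zero_iff.1 h
    rw [IsDomain.minimalPrimes_eq_singleton_bot, Set.mem_singleton_iff] at h1
    exact hq0.ne' h1
  -- dimensions
  have h2 : LocCoh.IsCohenMacaulayModule (B ⧸ p) (B ⧸ p) := hcm.supportDim_eq_depth
  have h3 : Module.support (B ⧸ p) (B ⧸ p) = Set.univ := by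
    rw [Module.support_eq_zeroLocus, Set.eq_univ_iff_forall]
    intro x a ha
    rw [SetLike.mem_coe, Module.mem_annihilator] at ha
    have := ha 1
    rw [smul_eq_mul, mul_one] at this
    rw [this]
    exact x.asIdeal.zero_mem
  have h4 := Ega4A.CMCatenary.height_add_ringKrullDim_quotient h2 h3 q
  rw [hd] at h4
  have hdI : (d : ℕ∞) ≤ LocCoh.depth (B ⧸ p) I := by
    rw [← Ega4C.DepthExt.depth_congr_of_surjective (M := I) (N := I) (Ideal.Quotient.mk p)
      Ideal.Quotient.mk_surjective (AddEquiv.refl _) (fun r m => rfl),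
      ← Ega4C.DepthExt.depth_congr _ e]
    exact le_depth_omega hn p d r hdr hd
  have hd0 : 0 < d := by
    rcases Nat.eq_zero_or_pos d with h | h
    · exfalso
      have h5 := (Ideal.height_le_ringKrullDim_of_ne_top hqp.ne_top)
      rw [hd, h] at h5
      have h6 : (1 : WithBot ℕ∞) ≤ 0 := le_trans (by exact_mod_cast h0) h5
      exact absurd h6 (by decide)
    · exact h
  obtain ⟨d', rfl⟩ : ∃ d', d = d' + 1 := ⟨d - 1, by omega⟩
  have h5 := le_depth_quotient I d' (by rw [depth_self p (d' + 1) hd]) hdI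
  have h6 : (d' : WithBot ℕ∞) ≤ ringKrullDim ((B ⧸ p) ⧸ q) :=
    le_trans (by exact_mod_cast h5) (Groth.Agent.S2089.result q hq)
  refine le_antisymm ?_ h0
  by_contra hcon
  rw [not_le] at hcon
  have h7 : ((2 : ℕ) : ℕ∞) ≤ q.height := by
    have := Order.add_one_le_of_lt hcon
    rwa [one_add_one_eq_two] at this
  have h8 : ((2 + d' : ℕ) : WithBot ℕ∞) ≤ ((d' + 1 : ℕ) : WithBot ℕ∞) := by
    rw [← h4]
    rw [Nat.cast_add]
    exact add_le_add (WithBot.coe_le_coe.2 h7) h6
  exact absurd (by exact_mod_cast h8 : 2 + d' ≤ d' + 1) (by omega)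

end Prime

end K171.Omega
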