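import Groth.Agent.LocCoh.K171.TopLC
import Groth.Agent.S2936

/-!
# Coassociated primes of the top local cohomology over a complete local ring
-/

set_option autoImplicit false
universe u

open CategoryTheory

namespace K171.TopCoass

open Groth.Agent.Dix.TopLC Groth.Agent.Localalg Groth.Agent.LoccohA K171.TopLC K171.Watts

variable {R : Type u} [CommRing R] [IsNoetherianRing R] [IsLocalRing R]

/-- vanishing for a module killed by a prime `p` of dimension `≤ n` with `I + p` not primary to `m`
(complete case). -/
theorem subsingleton_of_kill [IsAdicComplete (IsLocalRing.maximalIdeal R) R] (I p P : Ideal R)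
    [p.IsPrime] [P.IsPrime] (hpP : p ≤ P) (hIP : I ≤ P) (hP : P ≠ IsLocalRing.maximalIdeal R) (n : ℕ)
    (hd : ringKrullDim (R ⧸ p) ≤ n) (N : Type u) [AddCommGroup N] [Module R N] [Module (R ⧸ p) N]
    [IsScalarTower R (R ⧸ p) N] [Module.Finite (R ⧸ p) N] : Subsingleton (LocCoh.H I n N) := by
  have h1 := HLVT.subsingleton_of_prime_le (iface I) P hP hIP n p hpP hd
  obtain ⟨k, f, hf⟩ := Module.Finite.exists_fin' (R ⧸ p) N
  have h2 := subsingleton_pi I n k h1
  have h3 : Module.supportDim R (Fin k → R ⧸ p) ≤ n :=
    (supportDim_pi_le k).trans (by rwa [Module.supportDim_quotient_eq_ringKrullDim])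
  have h4 := surjective_of_dim_le I n h3 (f.restrictScalars R) hf
  exact h4.subsingleton

variable (E : Type u) [AddCommGroup E] [Module R E]

theorem subset_of_surjective {H H' : Type u} [AddCommGroup H] [Module R H] [AddCommGroup H']
    [Module R H'] (g : H →ₗ[R] H') (hg : Function.Surjective g) :
    associatedPrimes R (H' →ₗ[R] E) ⊆ associatedPrimes R (H →ₗ[R] E) := by
  refine associatedPrimes.subset_of_injective (f := LinearMap.lcomp R E g) fun a b hab => ?_
  ext x
  obtain ⟨y, rfl⟩ := hg x
  exact DFunLike.congr_fun hab y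

theorem radical_sup_eq (I p : Ideal R) (hI : I ≤ IsLocalRing.maximalIdeal R)
    (hp : p ≤ IsLocalRing.maximalIdeal R)
    (h : ∀ P : Ideal R, P.IsPrime → p ≤ P → I ≤ P → P = IsLocalRing.maximalIdeal R) :
    (I ⊔ p).radical = IsLocalRing.maximalIdeal R := by
  refine le_antisymm ?_ ?_
  · rw [← (inferInstance : (IsLocalRing.maximalIdeal R).IsPrime).radical]
    exact Ideal.radical_mono (sup_le hI hp)
  · rw [Ideal.radical_eq_sInf]
    refine le_sInf fun P hP => ?_
    rw [h P hP.2 (le_sup_right.trans hP.1) (le_sup_left.trans hP.1)]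

theorem main [IsAdicComplete (IsLocalRing.maximalIdeal R) R]
    (f : IsLocalRing.ResidueField R →ₗ[R] E) (hf : InjHull.IsInjectiveHull f) (I : Ideal R)
    (M : Type u) [AddCommGroup M] [Module R M] [Module.Finite R M] (n : ℕ)
    (hn : Module.supportDim R M = n) :
    associatedPrimes R (LocCoh.H I n M →ₗ[R] E) = {p : Ideal R | p.IsPrime ∧
      Module.annihilator R M ≤ p ∧ ringKrullDim (R ⧸ p) = n ∧
      (I ⊔ p).radical = IsLocalRing.maximalIdeal R} := by
  by_cases hI1 : I = ⊤
  · subst hI1
    have h1 : Subsingleton (LocCoh.H (⊤ : Ideal R) n M) := by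
      refine ⟨fun x y => ?_⟩
      have key : ∀ x : LocCoh.H (⊤ : Ideal R) n M, x = 0 := by
        intro x
        obtain ⟨k, hk⟩ := (iface (⊤ : Ideal R)).pt M n x
        have := hk 1 (by rw [Ideal.top_pow]; exact trivial)
        rwa [one_smul] at this
      rw [key x, key y]
    have h2 : Subsingleton (LocCoh.H (⊤ : Ideal R) n M →ₗ[R] E) :=
      ⟨fun a b => LinearMap.ext fun x => by rw [Subsingleton.elim x 0, map_zero, map_zero]⟩
    rw [associatedPrimes.eq_empty_of_subsingleton]
    symm
    rw [Set.eq_empty_iff_forall_notMem]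
    rintro p ⟨-, -, -, h⟩
    rw [top_sup_eq, Ideal.radical_top] at h
    exact (IsLocalRing.maximalIdeal.isMaximal R).ne_top h.symm
  have hI : I ≤ IsLocalRing.maximalIdeal R := IsLocalRing.le_maximalIdeal hI1
  have hntM : Nontrivial M := (Module.supportDim_ne_bot_iff_nontrivial R M).1 (by rw [hn]; simp)
  ext p
  constructor
  · intro hp
    have hpp : p.IsPrime := hp.isPrime
    obtain ⟨g, hg⟩ := exists_surjective n M hn.le I _ hI le_rfl
    have h1 := subset_of_surjective E g hg hp
    rw [(Groth.Agent.S2936.result R E f hf M n hn).2.2] at h1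
    have hann : Module.annihilator R M ≤ p := by
      obtain ⟨-, x, hx⟩ := isAssociatedPrime_iff.1 h1.1
      intro a ha
      rw [hx, Submodule.mem_colon_singleton, Submodule.mem_bot]
      exact Module.mem_annihilator.1 ha x
    refine ⟨hpp, hann, h1.2, ?_⟩
    refine radical_sup_eq I p hI (IsLocalRing.le_maximalIdeal hpp.ne_top) fun P hP hpP hIP => ?_
    by_contra hPm
    -- the contradiction
    have h2 : Subsingleton (LocCoh.H I n (M ⧸ (p • (⊤ : Submodule R M)))) := by
      have : Module.Finite (R ⧸ p) (M ⧸ (p • (⊤ : Submodule R M))) :=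
        Module.Finite.of_restrictScalars_finite R _ _
      exact subsingleton_of_kill I p P hpP hIP hPm n h1.2.le _
    obtain ⟨-, φ, hφ⟩ := isAssociatedPrime_iff.1 hp
    have h3 : φ = 0 := by
      ext y
      have h4 := mem_smul_of_hmap_eq_zero I n hn.le p y (Subsingleton.elim _ _)
      have h5 : p • (⊤ : Submodule R (LocCoh.H I n M)) ≤ LinearMap.ker φ := by
        rw [Submodule.smul_le]
        intro a ha z _
        rw [hφ, Submodule.mem_colon_singleton, Submodule.mem_bot] at ha
        rw [LinearMap.mem_ker, map_smul]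
        exact DFunLike.congr_fun ha z
      exact h5 h4
    apply hpp.ne_top
    rw [hφ, h3, Ideal.eq_top_iff_one, Submodule.mem_colon_singleton, Submodule.mem_bot, smul_zero]
  · rintro ⟨hpp, hann, hd, hrad⟩
    set N := M ⧸ (p • (⊤ : Submodule R M)) with hN
    have hsupp : Module.support R N = Module.support R (R ⧸ p) := by
      refine (Module.support_quotient (M := M) p).trans ?_
      rw [Module.support_eq_zeroLocus, Module.support_eq_zeroLocus,
        Ideal.annihilator_quotient, Set.inter_eq_right]
      exact PrimeSpectrum.zeroLocus_anti_mono_ideal hann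
    have hdN : Module.supportDim R N = n := by
      rw [Module.supportDim, hsupp]
      change Module.supportDim R (R ⧸ p) = n
      rw [Module.supportDim_quotient_eq_ringKrullDim, hd]
    have hntN : Nontrivial N := (Module.supportDim_ne_bot_iff_nontrivial R N).1 (by rw [hdN]; simp)
    have hpN : p ≤ Module.annihilator R N := by
      intro a ha
      rw [Module.mem_annihilator]
      intro x
      obtain ⟨x, rfl⟩ := Submodule.Quotient.mk_surjective _ x
      rw [← Submodule.Quotient.mk_smul, Submodule.Quotient.mk_eq_zero]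
      exact Submodule.smul_mem_smul ha trivial
    have hpass : p ∈ associatedPrimes R N := by
      apply Module.associatedPrimes.minimalPrimes_annihilator_subset_associatedPrimes
      refine ⟨⟨hpp, ?_⟩, fun q hq _ => hpN.trans hq.2⟩
      have h5 : (⟨p, hpp⟩ : PrimeSpectrum R) ∈ Module.support R N := by
        rw [hsupp, Module.support_eq_zeroLocus, Ideal.annihilator_quotient]
        exact (le_refl p : p ≤ p)
      rw [Module.support_eq_zeroLocus] at h5
      exact h5
    have h1 := surjective_of_dim_le I n hn.le (p • (⊤ : Submodule R M)).mkQ (Submodule.mkQ_surjective _)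
    refine subset_of_surjective E _ h1 ?_
    obtain ⟨e⟩ := exists_equiv n N (IsLocalRing.maximalIdeal R) I (fun q hq hqN => by
      constructor
      · intro h
        exact hI.trans h
      · intro h
        rw [← hrad]
        have h5 : (I ⊔ p).radical ≤ q.radical := Ideal.radical_mono (sup_le h (hpN.trans hqN))
        rwa [hq.radical] at h5)
    have h6 : p ∈ associatedPrimes R (LocCoh.H (IsLocalRing.maximalIdeal R) n N →ₗ[R] E) := by
      rw [(Groth.Agent.S2936.result R E f hf N n hdN).2.2]
      exact ⟨hpass, hd⟩
    exact subset_of_surjective E e.symm.toLinearMap e.symm.surjective h6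

end K171.TopCoass
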